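import Cfsg.Agent.H189.TW.Star

/-!
# S3694, T6: orthonormal families (helper189)

`OF P` : `P i` (`i < t`) are `n × m` matrices with `Pᵢᴴ Pⱼ = δᵢⱼ` and `∑ Pᵢ Pᵢᴴ = 1`; `pr P i = Pᵢ Pᵢᴴ`.
* `exists_blk`, `exists_dg`, `exists_rot` : elements of `SU_n(q)` adapted to the decomposition.
-/

set_option autoImplicit false

namespace Cfsg.Agent.H189.TW

open Matrix Subgroup Cfsg Cfsg.Agent.H607.TW

section

variable {F : Type} [Field F] [StarRing F] {n m t : ℕ}

/-- an orthogonal decomposition of the space into `t` subspaces of dimension `m` with orthonormal bases -/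
structure OF (P : Fin t → Matrix (Fin n) (Fin m) F) : Prop where
  self : ∀ i, (P i)ᴴ * P i = 1
  orth : ∀ i j, i ≠ j → (P i)ᴴ * P j = 0
  sum : ∑ i, P i * (P i)ᴴ = 1

/-- the projections -/
def pr (P : Fin t → Matrix (Fin n) (Fin m) F) (i : Fin t) : Matrix (Fin n) (Fin n) F := P i * (P i)ᴴ

variable {P : Fin t → Matrix (Fin n) (Fin m) F}

theorem pr_def (i : Fin t) : pr P i = P i * (P i)ᴴ := rfl

theorem pr_star (i : Fin t) : (pr P i)ᴴ = pr P i := by
  rw [pr_def, Matrix.conjTranspose_mul, Matrix.conjTranspose_conjTranspose]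

theorem OF.pr_P (h : OF P) (i : Fin t) : pr P i * P i = P i := by
  rw [pr_def, Matrix.mul_assoc, h.self, Matrix.mul_one]

theorem OF.Ps_pr (h : OF P) (i : Fin t) : (P i)ᴴ * pr P i = (P i)ᴴ := by
  rw [pr_def, ← Matrix.mul_assoc, h.self, Matrix.one_mul]

theorem OF.pr_P_ne (h : OF P) {i j : Fin t} (hij : i ≠ j) : pr P i * P j = 0 := by
  rw [pr_def, Matrix.mul_assoc, h.orth _ _ hij, Matrix.mul_zero]

theorem OF.Ps_pr_ne (h : OF P) {i j : Fin t} (hij : i ≠ j) : (P i)ᴴ * pr P j = 0 := by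
  rw [pr_def, ← Matrix.mul_assoc, h.orth _ _ hij, Matrix.zero_mul]

theorem OF.pr_mul_self (h : OF P) (i : Fin t) : pr P i * pr P i = pr P i := by
  rw [pr_def, ← Matrix.mul_assoc, ← pr_def, h.pr_P]
  rfl

theorem OF.pr_mul_ne (h : OF P) {i j : Fin t} (hij : i ≠ j) : pr P i * pr P j = 0 := by
  rw [pr_def (i := j), ← Matrix.mul_assoc, h.pr_P_ne hij, Matrix.zero_mul]

theorem OF.sum_pr (h : OF P) : ∑ i, pr P i = 1 := h.sum

theorem OF.eq_sum (h : OF P) (x : Matrix (Fin n) (Fin n) F) : ∑ i, pr P i * x = x := by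
  rw [← Finset.sum_mul, h.sum_pr, one_mul]

theorem OF.eq_sum' (h : OF P) (x : Matrix (Fin n) (Fin n) F) : ∑ i, x * pr P i = x := by
  rw [← Finset.mul_sum, h.sum_pr, mul_one]

theorem OF.pr_ne_zero (h : OF P) (hm : 0 < m) (i : Fin t) : pr P i ≠ 0 := by
  intro h0
  have h1 : (P i)ᴴ * (pr P i * P i) = 1 := by rw [h.pr_P, h.self]
  rw [h0, Matrix.zero_mul, Matrix.mul_zero] at h1
  have h2 := congrFun (congrFun h1 ⟨0, hm⟩) ⟨0, hm⟩
  rw [Matrix.zero_apply, Matrix.one_apply_eq] at h2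
  exact zero_ne_one h2

theorem OF.pr_inj (h : OF P) (hm : 0 < m) {i j : Fin t} (hij : pr P i = pr P j) : i = j := by
  by_contra hne
  have h1 := h.pr_mul_ne hne
  rw [hij, h.pr_mul_self] at h1
  exact h.pr_ne_zero hm j h1

/-- the whole dimension -/
theorem OF.card (h : OF P) : n = t * m := by
  let U : Matrix (Fin n) (Fin t × Fin m) F := fun a x => P x.1 a x.2
  have h1 : U * Uᴴ = 1 := by
    rw [← h.sum]
    ext a b
    rw [Matrix.mul_apply, Fintype.sum_prod_type, Matrix.sum_apply]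
    refine Finset.sum_congr rfl fun i _ => ?_
    rw [Matrix.mul_apply]
    rfl
  have h2 : Uᴴ * U = 1 := by
    ext ⟨i, b⟩ ⟨j, c⟩
    have h3 : (Uᴴ * U) (i, b) (j, c) = ((P i)ᴴ * P j) b c := rfl
    rw [h3]
    by_cases hij : i = j
    · subst hij
      rw [h.self]
      by_cases hbc : b = c
      · subst hbc
        rw [Matrix.one_apply_eq, Matrix.one_apply_eq]
      · rw [Matrix.one_apply_ne hbc, Matrix.one_apply_ne]
        exact fun h4 => hbc (congrArg Prod.snd h4)
    · rw [h.orth _ _ hij, Matrix.zero_apply, Matrix.one_apply_ne]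
      exact fun h4 => hij (congrArg Prod.fst h4)
  have h3 : Fintype.card (Fin n) ≤ Fintype.card (Fin t × Fin m) := by
    have h5 : Function.Injective (Matrix.mulVecLin Uᴴ) := by
      intro x y hxy
      simp only [Matrix.mulVecLin_apply] at hxy
      have h6 := congrArg (fun z => U *ᵥ z) hxy
      simp only [Matrix.mulVec_mulVec, h1, Matrix.one_mulVec] at h6
      exact h6
    have h6 := LinearMap.finrank_le_finrank_of_injective h5
    simpa using h6
  have h4 : Fintype.card (Fin t × Fin m) ≤ Fintype.card (Fin n) := by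
    have h5 : Function.Injective (Matrix.mulVecLin U) := by
      intro x y hxy
      simp only [Matrix.mulVecLin_apply] at hxy
      have h6 := congrArg (fun z => Uᴴ *ᵥ z) hxy
      simp only [Matrix.mulVec_mulVec, h2, Matrix.one_mulVec] at h6
      exact h6
    have h6 := LinearMap.finrank_le_finrank_of_injective h5
    simpa using h6
  have h5 := le_antisymm h3 h4
  simpa using h5

theorem blk_pr_ne (h : OF P) (α : Matrix (Fin m) (Fin m) F) {i j : Fin t} (hij : i ≠ j) :
    blk (P i) α * pr P j = pr P j := by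
  rw [blk_def, add_mul, one_mul, Matrix.mul_assoc, h.Ps_pr_ne hij, Matrix.mul_zero, add_zero]

theorem pr_blk_ne (h : OF P) (α : Matrix (Fin m) (Fin m) F) {i j : Fin t} (hij : i ≠ j) :
    pr P j * blk (P i) α = pr P j := by
  rw [blk_def, mul_add, mul_one, ← Matrix.mul_assoc, ← Matrix.mul_assoc, h.pr_P_ne hij.symm, Matrix.zero_mul,
    Matrix.zero_mul, add_zero]

theorem blk_pr (h : OF P) (α : Matrix (Fin m) (Fin m) F) (i : Fin t) :
    blk (P i) α * pr P i = P i * α * (P i)ᴴ := by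
  rw [blk_def, add_mul, one_mul, Matrix.mul_assoc (P i * (α - 1)), h.Ps_pr, pr_def, Matrix.mul_sub, Matrix.mul_one,
    Matrix.sub_mul]
  abel

theorem pr_blk (h : OF P) (α : Matrix (Fin m) (Fin m) F) (i : Fin t) :
    pr P i * blk (P i) α = P i * α * (P i)ᴴ := by
  rw [blk_def, mul_add, mul_one, ← Matrix.mul_assoc, ← Matrix.mul_assoc, h.pr_P, pr_def, Matrix.mul_sub, Matrix.mul_one,
    Matrix.sub_mul]
  abel

theorem blk_comm (h : OF P) (α : Matrix (Fin m) (Fin m) F) (i j : Fin t) :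
    blk (P i) α * pr P j = pr P j * blk (P i) α := by
  by_cases hij : i = j
  · subst hij
    rw [blk_pr h, pr_blk h]
  · rw [blk_pr_ne h α hij, pr_blk_ne h α hij]

end

section

variable {F : Type} [Field F] [Fintype F] [StarRing F] {q n m t : ℕ} (hF : Fintype.card F = q ^ 2)
  (hs : ∀ x : F, star x = x ^ q) {P : Fin t → Matrix (Fin n) (Fin m) F}

include hF hs in
theorem exists_blk (h : OF P) (i : Fin t) {α : Matrix (Fin m) (Fin m) F} (h1 : αᴴ * α = 1) (h2 : α.det = 1) :
    ∃ s : ↥(Cfsg.SU n F q), mt (iSU n F q) s = blk (P i) α :=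
  exists_mt hF hs (blk_unit (h.self i) h1) (by rw [blk_det (h.self i), h2])

include hF hs in
theorem exists_dg (h : OF P) {i j : Fin t} (hij : i ≠ j) {a : F} (ha : a * a ^ q = 1) :
    ∃ s : ↥(Cfsg.SU n F q), mt (iSU n F q) s = 1 + (a - 1) • pr P i + (a⁻¹ - 1) • pr P j := by
  have ha0 : a ≠ 0 := by
    rintro rfl
    rw [zero_mul] at ha
    exact zero_ne_one ha
  have hu : ∀ b : F, b * b ^ q = 1 → ((b • (1 : Matrix (Fin m) (Fin m) F))ᴴ * (b • 1)) = 1 := by
    intro b hb
    rw [Matrix.conjTranspose_smul, Matrix.conjTranspose_one, hs, smul_mul_smul_comm, mul_one, mul_comm, hb, one_smul]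
  have ha' : a⁻¹ * a⁻¹ ^ q = 1 := by rw [inv_pow, ← mul_inv, ha, inv_one]
  have h1 : blk (P i) (a • 1) * blk (P j) (a⁻¹ • 1) = 1 + (a - 1) • pr P i + (a⁻¹ - 1) • pr P j := by
    have e1 : ∀ (b : F) (k : Fin t), blk (P k) (b • 1) = 1 + (b - 1) • pr P k := by
      intro b k
      rw [blk_def, pr_def]
      have : b • (1 : Matrix (Fin m) (Fin m) F) - 1 = (b - 1) • 1 := by rw [sub_smul, one_smul]
      rw [this, Matrix.mul_smul, Matrix.mul_one, Matrix.smul_mul]
    rw [e1, e1, mul_add, mul_one, add_mul, one_mul, smul_mul_smul_comm, h.pr_mul_ne hij, smul_zero, add_zero]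
  rw [← h1]
  apply exists_mt hF hs
  · rw [Matrix.conjTranspose_mul]
    have e1 := blk_unit (h.self i) (hu a ha)
    have e2 := blk_unit (h.self j) (hu _ ha')
    calc _ = (blk (P j) (a⁻¹ • 1))ᴴ * ((blk (P i) (a • 1))ᴴ * blk (P i) (a • 1)) * blk (P j) (a⁻¹ • 1) := by
          simp only [Matrix.mul_assoc]
      _ = 1 := by rw [e1, Matrix.mul_one, e2]
  · rw [Matrix.det_mul, blk_det (h.self i), blk_det (h.self j), Matrix.det_smul, Matrix.det_smul, Matrix.det_one, mul_one,
      mul_one, ← mul_pow, mul_inv_cancel₀ ha0, one_pow]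

/-- the rotation -/
def rot (P : Fin t → Matrix (Fin n) (Fin m) F) (i j : Fin t) : Matrix (Fin n) (Fin n) F :=
  1 - pr P i - pr P j + P i * (P j)ᴴ - P j * (P i)ᴴ

omit [Fintype F] in
theorem rot_P (h : OF P) {i j : Fin t} (hij : i ≠ j) : rot P i j * P i = - P j := by
  rw [rot, Matrix.sub_mul, Matrix.add_mul, Matrix.sub_mul, Matrix.sub_mul, Matrix.one_mul, h.pr_P, h.pr_P_ne hij.symm,
    Matrix.mul_assoc, Matrix.mul_assoc, h.self, h.orth _ _ hij.symm, Matrix.mul_zero, Matrix.mul_one]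
  abel

omit [Fintype F] in
theorem rot_P' (h : OF P) {i j : Fin t} (hij : i ≠ j) : rot P i j * P j = P i := by
  rw [rot, Matrix.sub_mul, Matrix.add_mul, Matrix.sub_mul, Matrix.sub_mul, Matrix.one_mul, h.pr_P, h.pr_P_ne hij,
    Matrix.mul_assoc, Matrix.mul_assoc, h.self, h.orth _ _ hij, Matrix.mul_zero, Matrix.mul_one]
  abel

omit [Fintype F] in
theorem rot_P_ne (h : OF P) {i j k : Fin t} (hik : i ≠ k) (hjk : j ≠ k) : rot P i j * P k = P k := by
  rw [rot, Matrix.sub_mul, Matrix.add_mul, Matrix.sub_mul, Matrix.sub_mul, Matrix.one_mul, h.pr_P_ne hik, h.pr_P_ne hjk,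
    Matrix.mul_assoc, Matrix.mul_assoc, h.orth _ _ hik, h.orth _ _ hjk, Matrix.mul_zero, Matrix.mul_zero]
  abel

omit [Fintype F] in
theorem rot_star (i j : Fin t) : (rot P i j)ᴴ = rot P j i := by
  rw [rot, rot, Matrix.conjTranspose_sub, Matrix.conjTranspose_add, Matrix.conjTranspose_sub, Matrix.conjTranspose_sub,
    Matrix.conjTranspose_one, pr_star, pr_star, Matrix.conjTranspose_mul, Matrix.conjTranspose_mul,
    Matrix.conjTranspose_conjTranspose, Matrix.conjTranspose_conjTranspose]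
  abel

omit [Fintype F] in
theorem ext_OF (h : OF P) {x y : Matrix (Fin n) (Fin n) F} (hxy : ∀ i, x * P i = y * P i) : x = y := by
  rw [← h.eq_sum' x, ← h.eq_sum' y]
  refine Finset.sum_congr rfl fun i _ => ?_
  rw [pr_def, ← Matrix.mul_assoc, ← Matrix.mul_assoc, hxy]

omit [Fintype F] in
theorem rot_mul_rot (h : OF P) {i j : Fin t} (hij : i ≠ j) : rot P j i * rot P i j = 1 := by
  apply ext_OF h
  intro k
  rw [Matrix.one_mul, Matrix.mul_assoc]
  by_cases hki : i = k
  · subst hki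
    rw [rot_P h hij, Matrix.mul_neg, rot_P h hij.symm, neg_neg]
  · by_cases hkj : j = k
    · subst hkj
      rw [rot_P' h hij, rot_P' h hij.symm]
    · rw [rot_P_ne h hki hkj, rot_P_ne h hkj hki]

theorem rot_det (h : OF P) (hn : 0 < n) {i j : Fin t} (hij : i ≠ j) : (rot P i j).det = 1 := by
  set c : Matrix (Fin n) (Fin n) F := P i * (P j)ᴴ with hc
  set d : Matrix (Fin n) (Fin n) F := P j * (P i)ᴴ with hd
  have hcc : c * c = 0 := by
    rw [hc]
    calc _ = P i * ((P j)ᴴ * P i) * (P j)ᴴ := by simp only [Matrix.mul_assoc]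
      _ = 0 := by rw [h.orth _ _ hij.symm, Matrix.mul_zero, Matrix.zero_mul]
  have hdd : d * d = 0 := by
    rw [hd]
    calc _ = P j * ((P i)ᴴ * P j) * (P i)ᴴ := by simp only [Matrix.mul_assoc]
      _ = 0 := by rw [h.orth _ _ hij, Matrix.mul_zero, Matrix.zero_mul]
  have hcd : c * d = pr P i := by
    rw [hc, hd, pr_def]
    calc _ = P i * ((P j)ᴴ * P j) * (P i)ᴴ := by simp only [Matrix.mul_assoc]
      _ = _ := by rw [h.self, Matrix.mul_one]
  have hdc : d * c = pr P j := by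
    rw [hc, hd, pr_def]
    calc _ = P j * ((P i)ᴴ * P i) * (P j)ᴴ := by simp only [Matrix.mul_assoc]
      _ = _ := by rw [h.self, Matrix.mul_one]
  have hcdc : pr P i * c = c := by rw [hc, ← Matrix.mul_assoc, h.pr_P]
  have e : rot P i j = (1 + c) * (1 + -d) * (1 + c) := by
    have e1 : (1 + c) * (1 + -d) * (1 + c) = 1 + c + c - d + c * c - d * c - c * d - c * d * c := by noncomm_ring
    rw [e1, hcc, hdc, hcd, hcdc, rot]
    abel
  have hdet : ∀ z : Matrix (Fin n) (Fin n) F, z * z = 0 → (1 + z).det = 1 := by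
    intro z hz
    exact Cfsg.Agent.H748.TW.det_one_add hn ⟨2, by rw [pow_two, hz]⟩
  rw [e, Matrix.det_mul, Matrix.det_mul, hdet c hcc, hdet (-d) (by rw [neg_mul_neg, hdd]), one_mul, one_mul]

include hF hs in
theorem exists_rot (h : OF P) (hn : 0 < n) {i j : Fin t} (hij : i ≠ j) :
    ∃ s : ↥(Cfsg.SU n F q), mt (iSU n F q) s = rot P i j :=
  exists_mt hF hs (by rw [rot_star, rot_mul_rot h hij]) (rot_det h hn hij)

end

end Cfsg.Agent.H189.TW
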