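import Cfsg.Agent.H189.TW.Rk

/-!
# S3694, T6: frames (helper189)

`Fr π T D e` : the frame `e` of the subgroup `D`, in terms of the action `T` of `G` on the matrix ring.
* `Fr.of_frame`, `Fr.conj`;
* `CompF` : the statement about invariant subalgebras; `comp_cent` : its use for centralizers;
* `Fr.selfadj` : the idempotents are self-adjoint.
-/

set_option autoImplicit false
set_option linter.unusedSectionVars false

namespace Cfsg.Agent.H189.TW

open Matrix Subgroup Cfsg Cfsg.Agent.H607.TW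
open Cfsg.Agent.H748.TW (mt_mul mt_one mt_inj mt_mul_inv mt_inv_mul HE HE_le mem_HE finite_S le_or_eq)

universe u

section

variable {G : Type u} [Group G] {F : Type} [Field F] [StarRing F] {q n : ℕ} {π : ↥(Cfsg.SU n F q) →* G}
  {T : G →* RingAut (Matrix (Fin n) (Fin n) F)} {N A : Subgroup G}

theorem T_mul (g h : G) (x : Matrix (Fin n) (Fin n) F) : T (g * h) x = T g (T h x) := by
  rw [map_mul, RingAut.mul_apply]

theorem T_inv (g : G) (x : Matrix (Fin n) (Fin n) F) : T g⁻¹ (T g x) = x := by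
  rw [← T_mul, inv_mul_cancel, map_one, RingAut.one_apply]

theorem T_inv' (g : G) (x : Matrix (Fin n) (Fin n) F) : T g (T g⁻¹ x) = x := by
  rw [← T_mul, mul_inv_cancel, map_one, RingAut.one_apply]

/-- the frame of `D` -/
structure Fr (π : ↥(Cfsg.SU n F q) →* G) (T : G →* RingAut (Matrix (Fin n) (Fin n) F)) (D : Subgroup G) {t : ℕ}
    (e : Fin t → Matrix (Fin n) (Fin n) F) : Prop where
  two : 2 ≤ t
  idem : ∀ i, e i * e i = e i
  ne : ∀ i, e i ≠ 0
  orth : ∀ i j, i ≠ j → e i * e j = 0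
  sum : ∑ i, e i = 1
  perm : ∀ a ∈ D, ∀ i, ∃ j, T a (e i) = e j
  star : ∀ i, ∃ j, (e i)ᴴ = e j
  stab : ∀ s, (∀ i, ∃ j, T (π s) (e i) = e j) → π s ∈ D

theorem Fr.inj {D : Subgroup G} {t : ℕ} {e : Fin t → Matrix (Fin n) (Fin n) F} (h : Fr π T D e) {i j : Fin t}
    (hij : e i = e j) : i = j := by
  by_contra hne
  have h1 := h.orth i j hne
  rw [hij, h.idem] at h1
  exact h.ne j h1

theorem Fr.conj (hT : Lf π T) {t : ℕ} {e : Fin t → Matrix (Fin n) (Fin n) F} (h : Fr π T A e) (g : G) :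
    Fr π T (A.map (MulAut.conj g).toMonoidHom) (fun i => T g (e i)) := by
  refine ⟨h.two, fun i => ?_, fun i h0 => ?_, fun i j hij => ?_, ?_, ?_, fun i => ?_, fun s hs => ?_⟩
  · rw [← map_mul, h.idem]
  · rw [map_eq_zero_iff _ (T g).injective] at h0
    exact h.ne i h0
  · rw [← map_mul, h.orth i j hij, map_zero]
  · rw [← map_sum, h.sum, map_one]
  · rintro _ ⟨a, ha, rfl⟩ i
    obtain ⟨j, hj⟩ := h.perm a ha i
    refine ⟨j, ?_⟩
    change T (g * a * g⁻¹) (T g (e i)) = T g (e j)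
    rw [T_mul, T_inv, T_mul, hj]
  · obtain ⟨j, hj⟩ := h.star i
    refine ⟨j, ?_⟩
    rw [← hT.str, hj]
  · obtain ⟨s', h1, h2⟩ := hT.conj g⁻¹ s
    have h3 : π s' ∈ A := by
      apply h.stab
      intro i
      obtain ⟨j, hj⟩ := hs i
      refine ⟨j, ?_⟩
      rw [h2, T_mul, T_mul, inv_inv, hj, T_inv]
    refine ⟨π s', h3, ?_⟩
    change g * π s' * g⁻¹ = π s
    rw [h2]
    group

/-- invariance in terms of the action -/
theorem inv_of (hT : Lf π T) {E : Subalgebra F (Matrix (Fin n) (Fin n) F)} (h1 : ∀ a ∈ A, ∀ x ∈ E, T a x ∈ E)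
    (h2 : ∀ x ∈ E, xᴴ ∈ E) : Inv (iSU n F q) π A E := by
  intro a ha τ hτ x hx
  rcases hT.ind a τ hτ with h3 | h3
  · rw [h3]
    exact h1 a ha x hx
  · rw [h3]
    exact h1 a ha _ (h2 x hx)

/-- centralizers of invariant sets are invariant -/
theorem cent_inv (hT : Lf π T) {X : Set (Matrix (Fin n) (Fin n) F)} (h1 : ∀ a ∈ A, ∀ x ∈ X, T a x ∈ X)
    (h2 : ∀ x ∈ X, xᴴ ∈ X) : Inv (iSU n F q) π A (Subalgebra.centralizer F X) := by
  apply inv_of hT
  · intro a ha x hx
    rw [Subalgebra.mem_centralizer_iff] at hx ⊢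
    intro y hy
    have h3 := hx _ (h1 a⁻¹ (inv_mem ha) y hy)
    have h4 := congrArg (T a) h3
    rw [map_mul, map_mul, T_inv'] at h4
    exact h4
  · intro x hx
    rw [Subalgebra.mem_centralizer_iff] at hx ⊢
    intro y hy
    have h3 := congrArg Matrix.conjTranspose (hx _ (h2 y hy))
    rw [Matrix.conjTranspose_mul, Matrix.conjTranspose_mul, Matrix.conjTranspose_conjTranspose] at h3
    exact h3.symm

/-- The statement about the simple factors of invariant subalgebras, for `L = F`. -/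
def CompF (π : ↥(Cfsg.SU n F q) →* G) (A : Subgroup G) : Prop :=
  ∀ E : Subalgebra F (Matrix (Fin n) (Fin n) F), Inv (iSU n F q) π A E → E ≠ ⊤ →
    ∀ (w : ℕ) (φ : Matrix (Fin w) (Fin w) F →ₙ+* Matrix (Fin n) (Fin n) F), Function.Injective φ →
      (∀ x, (∃ m, φ m = x) ↔ x ∈ E ∧ φ 1 * x = x) → (∀ x ∈ E, φ 1 * x = x * φ 1) →
      w ≤ 1 ∨ (((φ 1).map (fun c => c ^ q)).transpose = φ 1 ∧ ((w = 2 ∧ (q = 2 ∨ q = 3)) ∨ (w = 3 ∧ q = 2)))

/-- the corner isomorphism -/
def corner {w : ℕ} {P : Matrix (Fin n) (Fin w) F} {Q : Matrix (Fin w) (Fin n) F} (h : Q * P = 1) :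
    Matrix (Fin w) (Fin w) F →ₙ+* Matrix (Fin n) (Fin n) F where
  toFun x := P * x * Q
  map_mul' x y := by
    calc P * (x * y) * Q = P * x * (1 : Matrix (Fin w) (Fin w) F) * y * Q := by rw [Matrix.mul_one]; simp only [Matrix.mul_assoc]
      _ = _ := by rw [← h]; simp only [Matrix.mul_assoc]
  map_zero' := by rw [Matrix.mul_zero, Matrix.zero_mul]
  map_add' x y := by rw [Matrix.mul_add, Matrix.add_mul]

theorem comp_cent (hs : ∀ x : F, Star.star x = x ^ q) (hT : Lf π T) (hcomp : CompF π A)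
    {X : Set (Matrix (Fin n) (Fin n) F)} (h1 : ∀ a ∈ A, ∀ x ∈ X, T a x ∈ X)
    (h2 : ∀ x ∈ X, xᴴ ∈ X) (hne : Subalgebra.centralizer F X ≠ ⊤) {f : Matrix (Fin n) (Fin n) F}
    (hfX : ∀ x ∈ X, ∃ c : F, f * x = c • f ∧ x * f = c • f)
    (hfc : ∀ z, (∀ x ∈ X, x * z = z * x) → f * z = z * f) {w : ℕ} (hw : Rk f w) :
    w ≤ 1 ∨ (fᴴ = f ∧ ((w = 2 ∧ (q = 2 ∨ q = 3)) ∨ (w = 3 ∧ q = 2))) := by
  obtain ⟨P, Q, hPQ, hQP⟩ := hw
  have hφ : ∀ x, corner hQP x = P * x * Q := fun x => rfl
  have hφ1 : corner hQP 1 = f := by rw [hφ, Matrix.mul_one, hPQ]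
  have h3 := hcomp _ (cent_inv hT h1 h2) hne w (corner hQP) ?_ ?_ ?_
  · rcases h3 with h3 | ⟨h3, h4⟩
    · exact Or.inl h3
    · refine Or.inr ⟨?_, h4⟩
      rw [hφ1] at h3
      ext i j
      have h5 := congrFun (congrFun h3 i) j
      rw [Matrix.conjTranspose_apply, hs, ← h5]
      rfl
  · intro x y hxy
    rw [hφ, hφ] at hxy
    have h4 := congrArg (fun z => Q * z * P) hxy
    have h5 : ∀ z : Matrix (Fin w) (Fin w) F, Q * (P * z * Q) * P = z := by
      intro z
      calc _ = (Q * P) * z * (Q * P) := by simp only [Matrix.mul_assoc]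
        _ = z := by rw [hQP, Matrix.one_mul, Matrix.mul_one]
    simp only [h5] at h4
    exact h4
  · intro x
    constructor
    · rintro ⟨m, rfl⟩
      rw [hφ1, hφ]
      have hfP : f * P = P := by rw [← hPQ, Matrix.mul_assoc, hQP, Matrix.mul_one]
      have hQf : Q * f = Q := by rw [← hPQ, ← Matrix.mul_assoc, hQP, Matrix.one_mul]
      refine ⟨?_, ?_⟩
      · rw [Subalgebra.mem_centralizer_iff]
        intro y hy
        obtain ⟨c, h4, h5⟩ := hfX y hy
        have h6 : y * (P * m * Q) = c • (P * m * Q) := by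
          calc _ = (y * (f * P)) * m * Q := by rw [hfP]; simp only [Matrix.mul_assoc]
            _ = (y * f) * P * m * Q := by simp only [Matrix.mul_assoc]
            _ = c • (f * P * m * Q) := by rw [h5]; simp only [Matrix.smul_mul]
            _ = _ := by rw [hfP]
        have h7 : (P * m * Q) * y = c • (P * m * Q) := by
          calc _ = P * m * (Q * f) * y := by rw [hQf]
            _ = P * m * Q * (f * y) := by simp only [Matrix.mul_assoc]
            _ = c • (P * m * (Q * f)) := by rw [h4]; simp only [Matrix.mul_smul, Matrix.mul_assoc]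
            _ = _ := by rw [hQf]
        rw [h6, h7]
      · rw [← Matrix.mul_assoc, ← Matrix.mul_assoc, hfP]
    · rintro ⟨h4, h5⟩
      rw [hφ1] at h5
      rw [Subalgebra.mem_centralizer_iff] at h4
      refine ⟨Q * x * P, ?_⟩
      rw [hφ]
      have h6 := hfc x h4
      calc _ = (P * Q) * x * (P * Q) := by simp only [Matrix.mul_assoc]
        _ = f * (f * x) := by rw [hPQ, mul_assoc, ← h6]
        _ = x := by rw [h5, h5]
  · intro x hx
    rw [Subalgebra.mem_centralizer_iff] at hx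
    rw [hφ1]
    exact hfc x hx

end

section

variable {G : Type u} [Group G] {F : Type} [Field F] [Fintype F] [StarRing F] {q n : ℕ} (hF : Fintype.card F = q ^ 2)
  (hs : ∀ x : F, Star.star x = x ^ q) {π : ↥(Cfsg.SU n F q) →* G}
  {T : G →* RingAut (Matrix (Fin n) (Fin n) F)} {N A : Subgroup G} {r : ℕ}

include hF hs in
theorem Fr.of_frame (hT : Lf π T) {t : ℕ} {e : Fin t → Matrix (Fin n) (Fin n) F} (h : Frame (iSU n F q) π A e) :
    Fr π T A e := by
  refine ⟨h.two, h.idem, h.ne, h.orth, h.sum, fun a ha i => ?_, fun i => ?_, fun s hs => ?_⟩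
  · obtain ⟨τ, hτ, hx⟩ := hT.self a
    obtain ⟨j, hj⟩ := h.perm a ha τ hτ i
    exact ⟨j, by rw [← hx, hj]⟩
  · have h1 := Cfsg.Agent.H296.TW.star_su (n := n) hF π (Cfsg.Agent.LieClassical.HermBasic.conj hF)
      (Cfsg.Agent.LieClassical.HermBasic.conj_apply hF)
    obtain ⟨j, hj⟩ := h.perm 1 (one_mem _) _ h1 i
    refine ⟨j, ?_⟩
    rw [← hj, tauM_apply, Units.val_one, one_mul, inv_one, Units.val_one, mul_one, ← st_eq hF hs]
    rfl
  · apply h.stab
    intro i
    obtain ⟨j, hj⟩ := hs i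
    refine ⟨j, ?_⟩
    rw [← hj, hT.pi, mul_assoc, mt_inv_mul, mul_one]

/-- the centralizer of a set containing a nontrivial idempotent is proper -/
theorem cent_ne_top (hn : 0 < n) {X : Set (Matrix (Fin n) (Fin n) F)} {f : Matrix (Fin n) (Fin n) F} (hf : f ∈ X)
    (hff : f * f = f) (h0 : f ≠ 0) (h1 : f ≠ 1) : Subalgebra.centralizer F X ≠ ⊤ := by
  intro htop
  have h2 : ∀ x, f * x = x * f := by
    intro x
    have h3 : x ∈ Subalgebra.centralizer F X := by
      rw [htop]
      exact Algebra.mem_top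
    rw [Subalgebra.mem_centralizer_iff] at h3
    exact h3 f hf
  have h3 := scalar_of hn h2
  set c := f ⟨0, hn⟩ ⟨0, hn⟩
  rw [h3, smul_mul_smul_comm, mul_one] at hff
  have h4 := congrFun (congrFun hff ⟨0, hn⟩) ⟨0, hn⟩
  simp only [Matrix.smul_apply, Matrix.one_apply_eq, smul_eq_mul, mul_one] at h4
  rcases eq_or_ne c 0 with h5 | h5
  · apply h0
    rw [h3, h5, zero_smul]
  · apply h1
    rw [h3]
    have : c = 1 := mul_right_cancel₀ h5 (by rw [h4, one_mul])
    rw [this, one_smul]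

theorem Fr.ne_one {t : ℕ} {e : Fin t → Matrix (Fin n) (Fin n) F} (h : Fr π T A e) (i : Fin t) : e i ≠ 1 := by
  intro h1
  obtain ⟨j, hj⟩ : ∃ j : Fin t, j ≠ i := by
    have h2 := h.two
    by_cases h3 : i = ⟨0, by omega⟩
    · refine ⟨⟨1, by omega⟩, ?_⟩
      rw [h3]
      intro h4
      have := congrArg Fin.val h4
      simp at this
    · exact ⟨⟨0, by omega⟩, fun h4 => h3 h4.symm⟩
  have h3 := h.orth j i hj
  rw [h1, mul_one] at h3
  exact h.ne j h3

/-- the rank of the idempotents of the frame -/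
theorem Fr.rank (hn : 3 ≤ n) (hT : Lf π T) (hcomp : CompF π A) {t : ℕ} {e : Fin t → Matrix (Fin n) (Fin n) F}
    (h : Fr π T A e) (hs : ∀ x : F, Star.star x = x ^ q) {i : Fin t} {w : ℕ} (hw : Rk (e i) w) :
    w = 1 ∨ ((e i)ᴴ = e i ∧ ((w = 2 ∧ (q = 2 ∨ q = 3)) ∨ (w = 3 ∧ q = 2))) := by
  have h0 := hw.pos (h.ne i)
  have h1 := comp_cent hs hT hcomp (X := Set.range e) (f := e i) (by
      rintro a ha _ ⟨k, rfl⟩
      obtain ⟨j, hj⟩ := h.perm a ha k
      exact ⟨j, hj.symm⟩) (by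
      rintro _ ⟨k, rfl⟩
      obtain ⟨j, hj⟩ := h.star k
      exact ⟨j, hj.symm⟩)
    (cent_ne_top (by omega) (Set.mem_range_self i) (h.idem i) (h.ne i) (h.ne_one i)) (by
      rintro _ ⟨k, rfl⟩
      by_cases hik : i = k
      · subst hik
        exact ⟨1, by rw [h.idem, one_smul], by rw [h.idem, one_smul]⟩
      · exact ⟨0, by rw [h.orth i k hik, zero_smul], by rw [h.orth k i (Ne.symm hik), zero_smul]⟩)
    (fun z hz => hz _ (Set.mem_range_self i)) hw
  rcases h1 with h1 | h1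
  · left
    omega
  · exact Or.inr h1

include hF hs in
/-- **the idempotents are self-adjoint** -/
theorem Fr.selfadj (hn : 3 ≤ n) (hL : Loc N A r) (hM : Model N (iSU n F q) π) (hT : Lf π T) (hcomp : CompF π A)
    {t : ℕ} {e : Fin t → Matrix (Fin n) (Fin n) F} (h : Fr π T A e) (i : Fin t) : (e i)ᴴ = e i := by
  have : Finite ↥(Cfsg.SU n F q) := finite_S hM
  have hn0 : 0 < n := by omega
  by_contra hcon
  obtain ⟨i', hi'⟩ := h.star i
  have hii : i ≠ i' := by
    rintro rfl
    exact hcon hi'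
  have hi : (e i')ᴴ = e i := by rw [← hi', Matrix.conjTranspose_conjTranspose]
  have hcon' : (e i')ᴴ ≠ e i' := by
    rw [hi]
    intro h1
    exact hii (h.inj h1)
  have rk1 : Rk (e i) 1 := by
    obtain ⟨w, hw⟩ := exists_rk (h.idem i)
    rcases h.rank hn hT hcomp hs hw with rfl | ⟨h1, -⟩
    · exact hw
    · exact (hcon h1).elim
  have rk2 : Rk (e i') 1 := by
    obtain ⟨w, hw⟩ := exists_rk (h.idem i')
    rcases h.rank hn hT hcomp hs hw with rfl | ⟨h1, -⟩
    · exact hw
    · exact (hcon' h1).elim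
  -- a nonzero element of the corner
  obtain ⟨y, hy0, hy1, hy2⟩ : ∃ y, y ≠ 0 ∧ e i * y = y ∧ y * e i' = y := by
    obtain ⟨P, Q, h1, h2⟩ := rk1
    obtain ⟨P', Q', h3, h4⟩ := rk2
    refine ⟨P * Q', ?_, ?_, ?_⟩
    · intro h0
      have h5 : Q * (P * Q') * P' = 1 := by
        calc _ = (Q * P) * (Q' * P') := by simp only [Matrix.mul_assoc]
          _ = 1 := by rw [h2, h4, Matrix.one_mul]
      rw [h0, Matrix.mul_zero, Matrix.zero_mul] at h5
      have h6 := congrFun (congrFun h5 0) 0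
      rw [Matrix.zero_apply, Matrix.one_apply_eq] at h6
      exact zero_ne_one h6
    · rw [← h1, ← Matrix.mul_assoc, Matrix.mul_assoc P Q P, h2, Matrix.mul_one]
    · rw [← h3, Matrix.mul_assoc P Q' (P' * Q'), ← Matrix.mul_assoc Q' P' Q', h4, Matrix.one_mul]
  have hys1 : e i * yᴴ = yᴴ := by
    rw [← hi, ← Matrix.conjTranspose_mul, hy2]
  have hys2 : yᴴ * e i' = yᴴ := by
    rw [← hi', ← Matrix.conjTranspose_mul, hy1]
  obtain ⟨c, hc⟩ : ∃ c : F, c • y - (c • y)ᴴ ≠ 0 := by
    by_contra hall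
    push Not at hall
    have h1 := hall 1
    rw [one_smul, sub_eq_zero] at h1
    have h2 : ∀ c : F, c ^ q = c := by
      intro c
      have h3 := hall c
      rw [Matrix.conjTranspose_smul, ← h1, hs, ← sub_smul, smul_eq_zero, sub_eq_zero] at h3
      exact (h3.resolve_right hy0).symm
    have h4 := Cfsg.Agent.LieClassical.HermBasic.card_fixed hF
    have h5 : Nat.card {x : F // x ^ q = x} = Nat.card F :=
      Nat.card_congr (Equiv.subtypeUnivEquiv h2)
    rw [h5, Nat.card_eq_fintype_card, hF] at h4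
    have h6 := Cfsg.Agent.LieClassical.HermBasic.two_le hF
    nlinarith
  set x : Matrix (Fin n) (Fin n) F := c • y - (c • y)ᴴ with hx
  have hx1 : e i * x = x := by
    rw [hx, mul_sub, mul_smul_comm, hy1, Matrix.conjTranspose_smul, mul_smul_comm, hys1]
  have hx2 : x * e i' = x := by
    rw [hx, sub_mul, smul_mul_assoc, hy2, Matrix.conjTranspose_smul, smul_mul_assoc, hys2]
  have hxs : xᴴ = -x := by
    rw [hx, Matrix.conjTranspose_sub, Matrix.conjTranspose_conjTranspose]
    abel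
  have hxx : x * x = 0 := by
    calc x * x = (x * e i') * (e i * x) := by rw [hx1, hx2]
      _ = x * (e i' * e i) * x := by simp only [mul_assoc]
      _ = 0 := by rw [h.orth i' i hii.symm, mul_zero, zero_mul]
  obtain ⟨s, hs1⟩ : ∃ s : ↥(Cfsg.SU n F q), mt (iSU n F q) s = 1 + x := by
    apply exists_mt hF hs
    · rw [Matrix.conjTranspose_add, Matrix.conjTranspose_one, hxs]
      calc (1 + -x) * (1 + x) = 1 - x * x := by noncomm_ring
        _ = 1 := by rw [hxx, sub_zero]
    · exact Cfsg.Agent.H748.TW.det_one_add hn0 ⟨2, by rw [pow_two, hxx]⟩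
  let X : Set (Matrix (Fin n) (Fin n) F) := Set.range fun k => e k + (e k)ᴴ
  have hXi : e i + e i' ∈ X := ⟨i, by simp only [hi']⟩
  have hidem : (e i + e i') * (e i + e i') = e i + e i' := by
    rw [mul_add, add_mul, add_mul, h.idem, h.idem, h.orth i i' hii, h.orth i' i hii.symm, add_zero, zero_add]
  have hne0 : e i + e i' ≠ 0 := by
    intro h0
    have h1 : e i * (e i + e i') = 0 := by rw [h0, mul_zero]
    rw [mul_add, h.idem, h.orth i i' hii, add_zero] at h1
    exact h.ne i h1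
  have hne1 : e i + e i' ≠ 1 := by
    intro h1
    have h2 : 1 - e i = e i' := by rw [← h1]; abel
    have h3 := rk1.add (h2 ▸ rk2)
    omega
  have hEne : Subalgebra.centralizer F X ≠ ⊤ := cent_ne_top hn0 hXi hidem hne0 hne1
  have hEinv : Inv (iSU n F q) π A (Subalgebra.centralizer F X) := by
    apply cent_inv hT
    · rintro a ha _ ⟨k, rfl⟩
      obtain ⟨j, hj⟩ := h.perm a ha k
      refine ⟨j, ?_⟩
      simp only
      rw [map_add, hT.str, hj]
    · rintro _ ⟨k, rfl⟩
      refine ⟨k, ?_⟩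
      simp only
      rw [Matrix.conjTranspose_add, Matrix.conjTranspose_conjTranspose, add_comm]
  have hsE : s ∈ HE (iSU n F q) (Subalgebra.centralizer F X) := by
    rw [mem_HE, Subalgebra.mem_centralizer_iff]
    rintro _ ⟨k, rfl⟩
    simp only
    rw [hs1]
    have e1 : x * e k = if k = i' then x else 0 := by
      rw [← hx2, mul_assoc]
      split_ifs with hk
      · rw [hk, h.idem]
      · rw [h.orth i' k (Ne.symm hk), mul_zero]
    have e2 : e k * x = if k = i then x else 0 := by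
      rw [← hx1, ← mul_assoc]
      split_ifs with hk
      · rw [hk, h.idem]
      · rw [h.orth k i hk, zero_mul]
    have e3 : x * (e k)ᴴ = if k = i then x else 0 := by
      have h1 := congrArg Matrix.conjTranspose e2
      rw [Matrix.conjTranspose_mul, hxs, neg_mul] at h1
      rw [neg_eq_iff_eq_neg.1 h1]
      split_ifs
      · rw [hxs, neg_neg]
      · rw [Matrix.conjTranspose_zero, neg_zero]
    have e4 : (e k)ᴴ * x = if k = i' then x else 0 := by
      have h1 := congrArg Matrix.conjTranspose e1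
      rw [Matrix.conjTranspose_mul, hxs, mul_neg] at h1
      rw [neg_eq_iff_eq_neg.1 h1]
      split_ifs
      · rw [hxs, neg_neg]
      · rw [Matrix.conjTranspose_zero, neg_zero]
    have e5 : (e k + (e k)ᴴ) * (1 + x) = (e k + (e k)ᴴ) + (e k * x + (e k)ᴴ * x) := by
      rw [mul_add, mul_one, add_mul]
    have e6 : (1 + x) * (e k + (e k)ᴴ) = (e k + (e k)ᴴ) + (x * e k + x * (e k)ᴴ) := by
      rw [add_mul, one_mul, mul_add]
    rw [e5, e6, e1, e2, e3, e4, add_comm (if k = i then x else 0)]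
  have hsA : π s ∈ A := HE_le hL hM hEinv hEne ⟨s, hsE, rfl⟩
  obtain ⟨k, hk⟩ := h.perm _ hsA i'
  have hsi : mt (iSU n F q) s⁻¹ = 1 - x := by
    rw [← mt_star hF hs, hs1, Matrix.conjTranspose_add, Matrix.conjTranspose_one, hxs, sub_eq_add_neg]
  have hex : e i' * x = 0 := by rw [← hx1, ← mul_assoc, h.orth i' i hii.symm, zero_mul]
  have h1 : e k = e i' + x := by
    rw [← hk, hT.pi, hs1, hsi, add_mul, one_mul, hx2, mul_sub, mul_one, add_mul, hex, zero_add, hxx, sub_zero]
  by_cases hki : k = i'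
  · rw [hki] at h1
    apply hc
    have : e i' + x = e i' + 0 := by rw [← h1, add_zero]
    exact add_left_cancel this
  · apply h.ne k
    have h2 := h.orth k i' hki
    rw [h1, add_mul, h.idem, hx2, ← h1] at h2
    exact h2

end

end Cfsg.Agent.H189.TW
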