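import Cfsg.Agent.H189.TW.Cent

/-!
# S3694, T6: non-commuting conjugates in `GU_2(3)` and `GU_3(2)` (helper189)

`conjAx_one`, `nilAx_two`, `conjAx_two` (`|F| = 9`), `nilAx_three`, `conjAx_three` (`|F| = 4`).
-/

set_option autoImplicit false
set_option linter.unusedSectionVars false

namespace Cfsg.Agent.H189.TW

open Matrix

section

variable {F : Type} [Field F] [Fintype F] [StarRing F]

theorem conjAx_one : ConjAx F 1 := by
  intro y hy
  exfalso
  apply hy
  refine ⟨y 0 0, ?_⟩
  ext i j
  have hi : i = 0 := Subsingleton.elim _ _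
  have hj : j = 0 := Subsingleton.elim _ _
  subst hi hj
  simp

/-- special unitary matrices -/
def IsU {m : ℕ} (α : Matrix (Fin m) (Fin m) F) : Prop := αᴴ * α = 1 ∧ α.det = 1

theorem IsU.mul {m : ℕ} {α β : Matrix (Fin m) (Fin m) F} (hα : IsU α) (hβ : IsU β) : IsU (α * β) := by
  refine ⟨?_, by rw [Matrix.det_mul, hα.2, hβ.2, one_mul]⟩
  rw [Matrix.conjTranspose_mul]
  calc _ = βᴴ * (αᴴ * α) * β := by simp only [Matrix.mul_assoc]
    _ = 1 := by rw [hα.1, Matrix.mul_one, hβ.1]

theorem IsU.star {m : ℕ} {α : Matrix (Fin m) (Fin m) F} (hα : IsU α) : IsU αᴴ := by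
  refine ⟨?_, by rw [Matrix.det_conjTranspose, hα.2, star_one]⟩
  rw [Matrix.conjTranspose_conjTranspose]
  exact mul_eq_one_comm.1 hα.1

/-- the span of the conjugates of `y` -/
def Sp {m : ℕ} (y : Matrix (Fin m) (Fin m) F) : Submodule F (Matrix (Fin m) (Fin m) F) :=
  Submodule.span F {z | ∃ α, IsU α ∧ z = α * y * αᴴ}

theorem mem_Sp {m : ℕ} {y : Matrix (Fin m) (Fin m) F} {α : Matrix (Fin m) (Fin m) F} (hα : IsU α) :
    α * y * αᴴ ∈ Sp y := Submodule.subset_span ⟨α, hα, rfl⟩

theorem self_mem_Sp {m : ℕ} (y : Matrix (Fin m) (Fin m) F) : y ∈ Sp y := by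
  have h := mem_Sp (y := y) (α := 1) ⟨by rw [Matrix.conjTranspose_one, Matrix.mul_one], Matrix.det_one⟩
  rwa [Matrix.conjTranspose_one, Matrix.mul_one, Matrix.one_mul] at h

theorem Sp_conj {m : ℕ} {y : Matrix (Fin m) (Fin m) F} {α : Matrix (Fin m) (Fin m) F} (hα : IsU α)
    {z : Matrix (Fin m) (Fin m) F} (hz : z ∈ Sp y) : α * z * αᴴ ∈ Sp y := by
  unfold Sp at hz
  induction hz using Submodule.span_induction with
  | mem z hz =>
    obtain ⟨β, hβ, rfl⟩ := hz
    have h := mem_Sp (y := y) (hα.mul hβ)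
    rw [Matrix.conjTranspose_mul] at h
    simpa only [Matrix.mul_assoc] using h
  | zero => rw [Matrix.mul_zero, Matrix.zero_mul]; exact Submodule.zero_mem _
  | add a b _ _ ha hb => rw [Matrix.mul_add, Matrix.add_mul]; exact Submodule.add_mem _ ha hb
  | smul c a _ ha => rw [Matrix.mul_smul, Matrix.smul_mul]; exact Submodule.smul_mem _ c ha

theorem Sp_comm {m : ℕ} {y : Matrix (Fin m) (Fin m) F}
    (hy : ∀ α, IsU α → y * (α * y * αᴴ) = (α * y * αᴴ) * y) {z z' : Matrix (Fin m) (Fin m) F} (hz : z ∈ Sp y)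
    (hz' : z' ∈ Sp y) : z * z' = z' * z := by
  have h1 : ∀ α, IsU α → ∀ β, IsU β → (α * y * αᴴ) * (β * y * βᴴ) = (β * y * βᴴ) * (α * y * αᴴ) := by
    intro α hα β hβ
    have h2 := hy (αᴴ * β) (hα.star.mul hβ)
    have h3 : α * αᴴ = 1 := mul_eq_one_comm.1 hα.1
    have h4 := congrArg (fun z => α * z * αᴴ) h2
    simp only [Matrix.conjTranspose_mul, Matrix.conjTranspose_conjTranspose] at h4
    calc _ = α * (y * (αᴴ * β * y * (βᴴ * α))) * αᴴ := by
          have e1 : α * (y * (αᴴ * β * y * (βᴴ * α))) * αᴴ = α * y * αᴴ * (β * y * βᴴ) * (α * αᴴ) := by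
            simp only [Matrix.mul_assoc]
          rw [e1, h3, Matrix.mul_one]
      _ = α * (αᴴ * β * y * (βᴴ * α) * y) * αᴴ := h4
      _ = _ := by
        have e1 : α * (αᴴ * β * y * (βᴴ * α) * y) * αᴴ = (α * αᴴ) * (β * y * βᴴ) * (α * y * αᴴ) := by
            simp only [Matrix.mul_assoc]
        rw [e1, h3, Matrix.one_mul]
  have h5 : ∀ α, IsU α → ∀ w ∈ Sp y, (α * y * αᴴ) * w = w * (α * y * αᴴ) := by
    intro α hα w hw
    unfold Sp at hw
    induction hw using Submodule.span_induction with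
    | mem w hw => obtain ⟨β, hβ, rfl⟩ := hw; exact h1 α hα β hβ
    | zero => rw [Matrix.mul_zero, Matrix.zero_mul]
    | add a b _ _ ha hb => rw [Matrix.mul_add, Matrix.add_mul, ha, hb]
    | smul c a _ ha => rw [Matrix.mul_smul, Matrix.smul_mul, ha]
  unfold Sp at hz
  induction hz using Submodule.span_induction with
  | mem z hz => obtain ⟨β, hβ, rfl⟩ := hz; exact h5 β hβ z' hz'
  | zero => rw [Matrix.mul_zero, Matrix.zero_mul]
  | add a b _ _ ha hb => rw [Matrix.mul_add, Matrix.add_mul, ha, hb]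
  | smul c a _ ha => rw [Matrix.mul_smul, Matrix.smul_mul, ha]

end

section Two

variable {F : Type} [Field F] [Fintype F] [StarRing F] (hF : Fintype.card F = 3 ^ 2)
  (hs : ∀ x : F, star x = x ^ 3)

include hF in
theorem three_zero : (3 : F) = 0 := by
  have h1 : ((Fintype.card F : ℕ) : F) = 0 := Nat.cast_card_eq_zero F
  rw [hF] at h1
  have h2 : (3 : F) * 3 = 0 := by
    rw [← h1]
    norm_num
  exact (mul_self_eq_zero.1 h2)

include hF in
theorem exists_i : ∃ i : F, i * i = -1 := by
  have h1 : IsSquare (-1 : F) := by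
    rw [FiniteField.isSquare_neg_one_iff, hF]
    norm_num
  obtain ⟨i, hi⟩ := h1
  exact ⟨i, hi.symm⟩

include hF hs in
theorem nilAx_two : NilAx F 2 := by
  obtain ⟨i, hi⟩ := exists_i hF
  have h3 := three_zero hF
  have hsi : star i = -i := by
    rw [hs]
    linear_combination i * hi
  refine ⟨!![i, 1 + i; -1 + i, -i], ?_, ?_, ?_⟩
  · ext a b
    fin_cases a <;> fin_cases b <;> simp [Matrix.mul_apply, Fin.sum_univ_two]
    · linear_combination 2 * hi - h3
    · ring
    · ring
    · linear_combination 2 * hi - h3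
  · intro h0
    have h1 := congrFun (congrFun h0 0) 0
    simp at h1
    rw [h1] at hi
    simp at hi
  · ext a b
    fin_cases a <;> fin_cases b <;> simp [Matrix.conjTranspose_apply, hsi]
    · ring
    · ring

include hF hs in
theorem conjAx_two : ConjAx F 2 := by
  intro y hy
  by_contra hcon
  push Not at hcon
  obtain ⟨i, hi⟩ := exists_i hF
  have h3 := three_zero hF
  have hsi : star i = -i := by
    rw [hs]
    linear_combination i * hi
  have h2 : (2 : F) ≠ 0 := by
    intro h2
    have : (1 : F) = 0 := by linear_combination h3 - h2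
    exact one_ne_zero this
  have hi0 : i ≠ 0 := by
    rintro rfl
    simp at hi
  set a := y 0 0 with ha
  set b := y 0 1 with hb
  set c := y 1 0 with hc
  set d := y 1 1 with hd
  have hyy : y = !![a, b; c, d] := by
    ext k l
    fin_cases k <;> fin_cases l <;> rfl
  have e1 := hcon !![i, 0; 0, -i] (by
    ext k l
    fin_cases k <;> fin_cases l <;> simp [Matrix.mul_apply, Fin.sum_univ_two, Matrix.conjTranspose_apply, hsi]
    · linear_combination -hi
    · linear_combination -hi) (by
    rw [Matrix.det_fin_two_of]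
    linear_combination -hi)
  have e2 := hcon !![0, 1; -1, 0] (by
    ext k l
    fin_cases k <;> fin_cases l <;> simp [Matrix.mul_apply, Fin.sum_univ_two, Matrix.conjTranspose_apply]) (by
    rw [Matrix.det_fin_two_of]
    ring)
  have e3 := hcon !![1 + i, 1 + i; -1 + i, 1 - i] (by
    ext k l
    fin_cases k <;> fin_cases l <;> simp [Matrix.mul_apply, Fin.sum_univ_two, Matrix.conjTranspose_apply, hsi]
    · linear_combination -2 * hi + h3
    · ring
    · ring
    · linear_combination -2 * hi + h3) (by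
    rw [Matrix.det_fin_two_of]
    linear_combination -2 * hi + h3)
  have ct : ∀ p q r s : F, (!![p, q; r, s])ᴴ = !![star p, star r; star q, star s] := by
    intro p q r s
    ext k l
    fin_cases k <;> fin_cases l <;> rfl
  rw [hyy, ct] at e1 e2 e3
  have e101 := congrFun (congrFun e1 0) 1
  have e110 := congrFun (congrFun e1 1) 0
  have e200 := congrFun (congrFun e2 0) 0
  have e300 := congrFun (congrFun e3 0) 0
  have e301 := congrFun (congrFun e3 0) 1
  simp [Matrix.mul_apply, Fin.sum_univ_two, hsi] at e101 e110 e200 e300 e301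
  have f1 : b * (d - a) = 0 := by
    have : 2 * (b * (d - a)) = 0 := by linear_combination e101 + 2 * b * (d - a) * hi
    exact (mul_eq_zero.1 this).resolve_left h2
  have f2 : c * (a - d) = 0 := by
    have : 2 * (c * (a - d)) = 0 := by linear_combination e110 + 2 * c * (a - d) * hi
    exact (mul_eq_zero.1 this).resolve_left h2
  have f3 : (b - c) * (b + c) = 0 := by linear_combination -e200
  by_cases had : a = d
  · have hbc : b = 0 ∧ c = 0 := by
      rcases mul_eq_zero.1 f3 with f3 | f3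
      · have hbc : b = c := sub_eq_zero.1 f3
        rw [← had, ← hbc] at e301
        have h8 : 2 * 2 * 2 * (b * b) = 0 := by
          linear_combination -e301 + 4 * b * b * hi
        have hb0 : b = 0 := by
          by_contra hb0
          exact (mul_ne_zero (mul_ne_zero (mul_ne_zero h2 h2) h2) (mul_ne_zero hb0 hb0)) h8
        exact ⟨hb0, by rw [← hbc, hb0]⟩
      · have hbc : c = -b := by linear_combination f3
        rw [← had, hbc] at e300
        have h8 : 2 * 2 * 2 * (i * (b * b)) = 0 := by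
          linear_combination e300
        have hb0 : b = 0 := by
          by_contra hb0
          exact (mul_ne_zero (mul_ne_zero (mul_ne_zero h2 h2) h2) (mul_ne_zero hi0 (mul_ne_zero hb0 hb0))) h8
        exact ⟨hb0, by rw [hbc, hb0, neg_zero]⟩
    apply hy
    refine ⟨a, ?_⟩
    rw [hyy, hbc.1, hbc.2, ← had]
    ext k l
    fin_cases k <;> fin_cases l <;> simp
  · have hb0 : b = 0 := (mul_eq_zero.1 f1).resolve_right (sub_ne_zero.2 (Ne.symm had))
    have hc0 : c = 0 := (mul_eq_zero.1 f2).resolve_right (sub_ne_zero.2 had)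
    rw [hb0, hc0] at e301
    have h8 : 2 * (i * ((d - a) * (a - d))) = 0 := by
      linear_combination e301 - (d - a) * (a - d) * hi
    exact (mul_ne_zero h2 (mul_ne_zero hi0 (mul_ne_zero (sub_ne_zero.2 (Ne.symm had)) (sub_ne_zero.2 had)))) h8

end Two

section Three

variable {F : Type} [Field F] [Fintype F] [StarRing F] (hF : Fintype.card F = 2 ^ 2)
  (hs : ∀ x : F, star x = x ^ 2)

include hF in
theorem two_zero' : (2 : F) = 0 := by
  have h1 : ((Fintype.card F : ℕ) : F) = 0 := Nat.cast_card_eq_zero F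
  rw [hF] at h1
  have h2 : (2 : F) * 2 = 0 := by
    rw [← h1]
    norm_num
  exact (mul_self_eq_zero.1 h2)

include hF in
theorem exists_w : ∃ w : F, w * w = w + 1 := by
  obtain ⟨w, hw0, hw1⟩ : ∃ w : F, w ≠ 0 ∧ w ≠ 1 := by
    classical
    by_contra hcon
    push Not at hcon
    have h1 : (Finset.univ : Finset F) ⊆ {0, 1} := by
      intro k _
      rw [Finset.mem_insert, Finset.mem_singleton]
      by_cases h : k = 0
      · exact Or.inl h
      · exact Or.inr (hcon k h)
    have h2 := Finset.card_le_card h1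
    rw [Finset.card_univ, hF] at h2
    have h3 := Finset.card_insert_le (0 : F) ({1} : Finset F)
    rw [Finset.card_singleton] at h3
    omega
  have h2 := two_zero' hF
  refine ⟨w, ?_⟩
  have h3 : w ^ Fintype.card F = w := FiniteField.pow_card w
  rw [hF] at h3
  have h4 : w * ((w - 1) * (w * w + w + 1)) = 0 := by
    linear_combination h3
  have h5 := (mul_eq_zero.1 ((mul_eq_zero.1 h4).resolve_left hw0)).resolve_left (sub_ne_zero.2 hw1)
  linear_combination h5 - (w + 1) * h2

theorem nilAx_three' (h2 : (2 : F) = 0) : NilAx F 3 := by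
  refine ⟨!![1, 1, 0; 1, 1, 0; 0, 0, 0], ?_, ?_, ?_⟩
  · have e : (1 : F) + 1 = 0 := by rw [one_add_one_eq_two, h2]
    ext a b
    fin_cases a <;> fin_cases b <;> simp [Matrix.mul_apply, Fin.sum_univ_three, e]
  · intro h0
    have h1 := congrFun (congrFun h0 0) 0
    simp at h1
  · have e : (1 : F) = -1 := by linear_combination h2
    ext a b
    fin_cases a <;> fin_cases b <;> simp [Matrix.conjTranspose_apply, ← e]

theorem ct3 (a b c d e f g h i : F) : (!![a, b, c; d, e, f; g, h, i])ᴴ =
    !![star a, star d, star g; star b, star e, star h; star c, star f, star i] := by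
  ext k l
  fin_cases k <;> fin_cases l <;> rfl

/-- the key: the entry at `(1, 0)` vanishes -/
theorem entry_zero {w : F} (h2 : (2 : F) = 0) (hw : w * w = w + 1) (hs : ∀ x : F, star x = x ^ 2)
    {y : Matrix (Fin 3) (Fin 3) F} (hy : ∀ α, IsU α → y * (α * y * αᴴ) = (α * y * αᴴ) * y) : y 1 0 = 0 := by
  have hsw : star w = w * w := by rw [hs, pow_two]
  have w3 : w * w * w = 1 := by linear_combination w * hw + hw + w * h2
  have hD : IsU (!![1, 0, 0; 0, w, 0; 0, 0, w * w] : Matrix (Fin 3) (Fin 3) F) := by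
    refine ⟨?_, ?_⟩
    · rw [ct3]
      ext k l
      fin_cases k <;> fin_cases l <;> simp [Matrix.mul_apply, Fin.sum_univ_three, hsw]
      · exact w3
      · linear_combination (w * w * w + 1) * w3
    · rw [Matrix.det_fin_three]
      simp
      linear_combination w3
  have hC : IsU (!![0, 0, 1; 1, 0, 0; 0, 1, 0] : Matrix (Fin 3) (Fin 3) F) := by
    refine ⟨?_, ?_⟩
    · rw [ct3]
      ext k l
      fin_cases k <;> fin_cases l <;> simp [Matrix.mul_apply, Fin.sum_univ_three]
    · rw [Matrix.det_fin_three]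
      simp
  have hR : IsU (!![1, 1, 1; 1, w, w * w; 1, w * w, w] : Matrix (Fin 3) (Fin 3) F) := by
    refine ⟨?_, ?_⟩
    · rw [ct3]
      ext k l
      fin_cases k <;> fin_cases l <;> simp [Matrix.mul_apply, Fin.sum_univ_three, hsw]
      all_goals grind
    · rw [Matrix.det_fin_three]
      simp
      grind
  set D : Matrix (Fin 3) (Fin 3) F := !![1, 0, 0; 0, w, 0; 0, 0, w * w] with hDd
  set C : Matrix (Fin 3) (Fin 3) F := !![0, 0, 1; 1, 0, 0; 0, 1, 0] with hCd
  set R : Matrix (Fin 3) (Fin 3) F := !![1, 1, 1; 1, w, w * w; 1, w * w, w] with hRd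
  set α := y 1 0 with hα
  set β := y 2 1 with hβ
  set γ := y 0 2 with hγ
  set z : Matrix (Fin 3) (Fin 3) F := !![0, 0, γ; α, 0, 0; 0, β, 0] with hz
  have hzy : z = y + (w * w) • (D * y * Dᴴ) + w • (D * D * y * (D * D)ᴴ) := by
    rw [Matrix.conjTranspose_mul, hDd, ct3, hz, hα, hβ, hγ]
    conv_rhs => rw [Matrix.eta_fin_three y]
    clear_value α β γ
    clear hy hD hC hR
    ext k l
    fin_cases k <;> fin_cases l <;> simp [hsw]
    all_goals grind
  have hzS : z ∈ Sp y := by
    rw [hzy]
    exact Submodule.add_mem _ (Submodule.add_mem _ (self_mem_Sp y) (Submodule.smul_mem _ _ (mem_Sp hD)))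
      (Submodule.smul_mem _ _ (mem_Sp (hD.mul hD)))
  have eC := Sp_comm hy hzS (Sp_conj hC hzS)
  have eR := Sp_comm hy hzS (Sp_conj hR hzS)
  rw [hCd, ct3, hz] at eC
  rw [hRd, ct3, hz] at eR
  have c01 := congrFun (congrFun eC 0) 1
  have c12 := congrFun (congrFun eC 1) 2
  have c20 := congrFun (congrFun eC 2) 0
  have r00 := congrFun (congrFun eR 0) 0
  have r01 := congrFun (congrFun eR 0) 1
  have r10 := congrFun (congrFun eR 1) 0
  simp [Matrix.mul_apply, Fin.sum_univ_three, hsw] at c01 c12 c20 r00 r01 r10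
  clear_value z D C R α β γ
  clear hy hD hC hR eC eR hzS hzy hz hDd hCd hRd
  by_contra hα0
  have hw0 : w ≠ 0 := by
    rintro rfl
    simp at w3
  have hw1 : 1 - w ≠ 0 := by
    intro h1
    have : w = 1 := (sub_eq_zero.1 h1).symm
    rw [this] at hw
    have : (1 : F) = 0 := by linear_combination -hw
    exact one_ne_zero this
  have s1 : α + β + γ = 0 := by
    have : (1 - w) * (α * (α + β + γ)) = 0 := by grind
    exact (mul_eq_zero.1 ((mul_eq_zero.1 this).resolve_left hw1)).resolve_left hα0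
  have s2 : α + β * w = 0 := by
    have : α * (w * (α + β * w)) = 0 := by grind
    exact (mul_eq_zero.1 ((mul_eq_zero.1 this).resolve_left hα0)).resolve_left hw0
  have s3 : β = α * (w * w) := by grind
  have s4 : γ = α * w := by grind
  have s5 : α * α * w = 0 := by
    rw [s3, s4] at r01
    grind
  exact (mul_ne_zero (mul_ne_zero hα0 hα0) hw0) s5

theorem isU_C : IsU (!![0, 0, 1; 1, 0, 0; 0, 1, 0] : Matrix (Fin 3) (Fin 3) F) := by
  refine ⟨?_, ?_⟩
  · rw [ct3]
    ext k l
    fin_cases k <;> fin_cases l <;> simp [Matrix.mul_apply, Fin.sum_univ_three]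
  · rw [Matrix.det_fin_three]
    simp

theorem isU_W (h2 : (2 : F) = 0) : IsU (!![0, 1, 0; 1, 0, 0; 0, 0, 1] : Matrix (Fin 3) (Fin 3) F) := by
  refine ⟨?_, ?_⟩
  · rw [ct3]
    ext k l
    fin_cases k <;> fin_cases l <;> simp [Matrix.mul_apply, Fin.sum_univ_three]
  · rw [Matrix.det_fin_three]
    simp
    linear_combination -h2

/-- the property is invariant under conjugation -/
theorem prop_conj {m : ℕ} {y : Matrix (Fin m) (Fin m) F} (hy : ∀ α, IsU α → y * (α * y * αᴴ) = (α * y * αᴴ) * y)
    {β : Matrix (Fin m) (Fin m) F} (hβ : IsU β) (α : Matrix (Fin m) (Fin m) F) (hα : IsU α) :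
    (β * y * βᴴ) * (α * (β * y * βᴴ) * αᴴ) = (α * (β * y * βᴴ) * αᴴ) * (β * y * βᴴ) :=
  Sp_comm hy (mem_Sp hβ) (Sp_conj hα (mem_Sp hβ))

theorem offdiag {w : F} (h2 : (2 : F) = 0) (hw : w * w = w + 1) (hs : ∀ x : F, star x = x ^ 2)
    {y : Matrix (Fin 3) (Fin 3) F} (hy : ∀ α, IsU α → y * (α * y * αᴴ) = (α * y * αᴴ) * y) :
    ∀ k l, k ≠ l → y k l = 0 := by
  have a1 := entry_zero h2 hw hs hy
  have a2 := entry_zero h2 hw hs (prop_conj hy isU_C)
  have a3 := entry_zero h2 hw hs (prop_conj hy (isU_C.mul isU_C))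
  have a4 := entry_zero h2 hw hs (prop_conj hy (isU_W h2))
  have a5 := entry_zero h2 hw hs (prop_conj hy (isU_C.mul (isU_W h2)))
  have a6 := entry_zero h2 hw hs (prop_conj hy ((isU_C.mul isU_C).mul (isU_W h2)))
  rw [Matrix.eta_fin_three y] at a2 a3 a4 a5 a6
  simp only [Matrix.conjTranspose_mul, ct3] at a2 a3 a4 a5 a6
  simp at a2 a3 a4 a5 a6
  intro k l hkl
  fin_cases k <;> fin_cases l <;> first | (exact (hkl rfl).elim) | assumption

include hF hs in
theorem conjAx_three : ConjAx F 3 := by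
  intro y hy
  by_contra hcon
  push Not at hcon
  obtain ⟨w, hw⟩ := exists_w hF
  have h2 := two_zero' hF
  have hsw : star w = w * w := by rw [hs, pow_two]
  have hP : ∀ α, IsU α → y * (α * y * αᴴ) = (α * y * αᴴ) * y := fun α hα => hcon α hα.1 hα.2
  have hR : IsU (!![1, 1, 1; 1, w, w * w; 1, w * w, w] : Matrix (Fin 3) (Fin 3) F) := by
    refine ⟨?_, ?_⟩
    · rw [ct3]
      ext k l
      fin_cases k <;> fin_cases l <;> simp [Matrix.mul_apply, Fin.sum_univ_three, hsw]
      all_goals grind
    · rw [Matrix.det_fin_three]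
      simp
      grind
  have h3 := offdiag h2 hw hs hP
  have h4 := offdiag h2 hw hs (prop_conj hP hR)
  have b1 := h4 1 0 (by decide)
  have b2 := h4 0 1 (by decide)
  rw [Matrix.eta_fin_three y, ct3] at b1 b2
  rw [h3 0 1 (by decide), h3 0 2 (by decide), h3 1 0 (by decide), h3 1 2 (by decide), h3 2 0 (by decide),
    h3 2 1 (by decide)] at b1 b2
  simp [hsw] at b1 b2
  have hw1 : w - w * w ≠ 0 := by
    intro h1
    have : (1 : F) = 0 := by linear_combination -hw - h1
    exact one_ne_zero this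
  have e1 : y 1 1 = y 2 2 := by
    have : (w - w * w) * (y 1 1 - y 2 2) = 0 := by grind
    exact sub_eq_zero.1 ((mul_eq_zero.1 this).resolve_left hw1)
  have e2 : y 0 0 = y 2 2 := by grind
  apply hy
  refine ⟨y 2 2, ?_⟩
  ext k l
  by_cases hkl : k = l
  · subst hkl
    fin_cases k <;> simp [e1, e2]
  · rw [h3 k l hkl, Matrix.smul_apply, Matrix.one_apply_ne hkl, smul_zero]

include hF in
theorem nilAx_three : NilAx F 3 := nilAx_three' (two_zero' hF)

end Three

end Cfsg.Agent.H189.TW
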