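import Cfsg.Agent.H189.TW.Moves
import Cfsg.Agent.S0277
import Cfsg.Agent.Lib.FieldAutCard

/-!
# S3694, T6: small cases (helper189)

`small_one`, `small_two`.
-/

set_option autoImplicit false
set_option linter.unusedSectionVars false

namespace Cfsg.Agent.H189.TW

open Matrix Subgroup Cfsg Cfsg.Agent.H607.TW
open Cfsg.Agent.H748.TW (mt_mul mt_one mt_inj mt_mul_inv mt_inv_mul)

universe u

theorem M_ge {d : ℕ} (hd : 5 ≤ d) : 955514880 ≤ M d := by
  unfold M
  have h1 : Nat.factorial 5 ≤ Nat.factorial d := Nat.factorial_le hd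
  have h2 : Nat.factorial 4 ≤ Nat.factorial (d - 1) := Nat.factorial_le (by omega)
  have h3 : Nat.factorial 4 ^ 5 ≤ Nat.factorial (d - 1) ^ d :=
    (Nat.pow_le_pow_left h2 5).trans (Nat.pow_le_pow_right (Nat.factorial_pos _) hd)
  calc 955514880 = Nat.factorial 5 * Nat.factorial 4 ^ 5 := by decide
    _ ≤ _ := Nat.mul_le_mul h1 h3

theorem card_aut_le (F : Type) [Field F] [Fintype F] : 2 ^ Nat.card (F ≃+* F) ≤ Fintype.card F := by
  obtain ⟨p, hp⟩ := CharP.exists F
  obtain ⟨k, hprime, hcard⟩ := FiniteField.card F p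
  have : Fact p.Prime := ⟨hprime⟩
  have h1 := Cfsg.Agent.Lib.FieldAutCard.card_ringAut (F := F) k.pos hcard
  rw [h1, hcard]
  exact Nat.pow_le_pow_left hprime.two_le _

section

variable {G : Type u} [Group G] [Finite G] {F : Type} [Field F] [Fintype F] {q n : ℕ}
  (hF : Fintype.card F = q ^ 2) {π : ↥(Cfsg.SU n F q) →* G} {N : Subgroup G}

include hF in
theorem card_le_comap (hM : Model N (iSU n F q) π) (hN : N.Normal) (hc : centralizer (N : Set G) = ⊥) (hn : 3 ≤ n)
    (A : Subgroup G) : Nat.card A ≤ Nat.card (A.comap π) * Nat.card (F ≃+* F) := by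
  have hfinS : Finite ↥(Cfsg.SU n F q) := Cfsg.Agent.H748.TW.finite_S hM
  have h1 := Cfsg.Agent.H296.TW.index_su hF hN hc hn hM
  have h2 : Nat.card A = Nat.card (N.subgroupOf A) * N.relIndex A := (Subgroup.card_mul_index _).symm
  have h3 : N.relIndex A ≤ N.index := Nat.le_of_dvd (Nat.pos_of_ne_zero N.index_ne_zero_of_finite)
    (Subgroup.relIndex_dvd_index_of_normal N A)
  let g : ↥(A.comap π) →* G := π.comp (A.comap π).subtype
  have h4 : Nat.card (A.comap π) = Nat.card g.ker * Nat.card g.range := by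
    rw [← Subgroup.index_ker, Subgroup.card_mul_index]
  have h5 : Nat.card π.ker ≤ Nat.card g.ker := by
    refine Nat.card_le_card_of_injective (fun k : π.ker => (⟨⟨(k : ↥(Cfsg.SU n F q)), ?_⟩, ?_⟩ : g.ker)) ?_
    · rw [Subgroup.mem_comap, (MonoidHom.mem_ker).1 k.2]
      exact one_mem _
    · rw [MonoidHom.mem_ker]
      exact (MonoidHom.mem_ker).1 k.2
    · intro a b hab
      have := congrArg (fun z : g.ker => ((z : ↥(A.comap π)) : ↥(Cfsg.SU n F q))) hab
      exact Subtype.ext this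
  have h6 : Nat.card (N.subgroupOf A) ≤ Nat.card g.range := by
    refine Nat.card_le_card_of_injective (fun k : N.subgroupOf A => (⟨((k : A) : G), ?_⟩ : g.range)) ?_
    · have hk : ((k : A) : G) ∈ π.range := by
        rw [hM.range]
        exact k.2
      obtain ⟨s, hs⟩ := hk
      refine ⟨⟨s, ?_⟩, hs⟩
      rw [Subgroup.mem_comap, hs]
      exact (k : A).2
    · intro a b hab
      have := congrArg (fun z : g.range => (z : G)) hab
      exact Subtype.ext (Subtype.ext this)
  calc Nat.card A = Nat.card (N.subgroupOf A) * N.relIndex A := h2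
    _ ≤ Nat.card g.range * (Nat.card (F ≃+* F) * Nat.card π.ker) := Nat.mul_le_mul h6 (h3.trans h1)
    _ ≤ Nat.card g.range * (Nat.card (F ≃+* F) * Nat.card g.ker) :=
      Nat.mul_le_mul_left _ (Nat.mul_le_mul_left _ h5)
    _ = Nat.card (A.comap π) * Nat.card (F ≃+* F) := by rw [h4]; ring

include hF in
theorem small_one (hM : Model N (iSU n F q) π) (hN : N.Normal) (hc : centralizer (N : Set G) = ⊥) (hn : 3 ≤ n)
    (A : Subgroup G) {d : ℕ} (hd : 5 ≤ d) (h : (n ≤ 4 ∧ q ≤ 3) ∨ (n ≤ 5 ∧ q = 2)) : Nat.card A ≤ M d := by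
  have hfinG : Finite (Cfsg.GU n F q) := Cfsg.Agent.LieClassical.GUOrder.finite_GU n
  have hq := Cfsg.Agent.LieClassical.HermBasic.two_le hF
  have h1 := card_le_comap hF hM hN hc hn A
  have hfinS : Finite ↥(Cfsg.SU n F q) := Cfsg.Agent.H748.TW.finite_S hM
  have h2 : Nat.card (A.comap π) ≤ Nat.card ↥(Cfsg.SU n F q) := Subgroup.card_le_card_group _
  have h3 : Nat.card ↥(Cfsg.SU n F q) ≤ Nat.card (Cfsg.GU n F q) := by
    rw [Cfsg.Agent.LieClassical.GUOrder.card_GU_eq hF (by omega : 1 ≤ n)]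
    exact Nat.le_mul_of_pos_left _ (Nat.succ_pos q)
  have h4 := card_aut_le F
  have h5 : Nat.card (F ≃+* F) ≤ 3 := by
    by_contra hcon
    push Not at hcon
    have h6 : 2 ^ 4 ≤ 2 ^ Nat.card (F ≃+* F) := Nat.pow_le_pow_right (by norm_num) hcon
    rw [hF] at h4
    have h7 : q ^ 2 ≤ 3 ^ 2 := Nat.pow_le_pow_left (by omega) 2
    omega
  have h8 := Cfsg.Agent.S0277.result hF n
  have h9 : Nat.card (Cfsg.GU n F q) ≤ 52254720 := by
    rw [h8]
    rcases h with ⟨ha, hb⟩ | ⟨ha, hb⟩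
    · interval_cases n <;> interval_cases q <;> decide
    · subst hb
      interval_cases n <;> decide
  calc Nat.card A ≤ 52254720 * 3 := h1.trans (Nat.mul_le_mul ((h2.trans h3).trans h9) h5)
    _ ≤ 955514880 := by norm_num
    _ ≤ M d := M_ge hd

end

section

variable {G : Type u} [Group G] [Finite G] {F : Type} [Field F] [Fintype F] [StarRing F] {q n t : ℕ}
  (hF : Fintype.card F = q ^ 2) (hs : ∀ x : F, Star.star x = x ^ q) {π : ↥(Cfsg.SU n F q) →* G} {N A : Subgroup G}
  {T : G →* RingAut (Matrix (Fin n) (Fin n) F)}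
  {P : Fin t → Matrix (Fin n) (Fin 1) F} {e : Fin t → Matrix (Fin n) (Fin n) F}

include hF hs in
theorem small_two (hM : Model N (iSU n F q) π) (hN : N.Normal) (hc : centralizer (N : Set G) = ⊥) (hn : 3 ≤ n)
    (hT : Lf π T) (h : Fr π T A e) (hP : OF P) (he : ∀ i, e i = pr P i) (ht4 : t ≤ 4) (hq : q + 1 ≤ 36)
    {d : ℕ} (hd : 5 ≤ d) : Nat.card A ≤ M d := by
  classical
  have hfinS : Finite ↥(Cfsg.SU n F q) := Cfsg.Agent.H748.TW.finite_S hM
  have h1 := card_le_comap hF hM hN hc hn A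
  have key : ∀ s : ↥(A.comap π), ∃ (σ : Equiv.Perm (Fin t)) (c : Fin t → {x : F // x * x ^ q = 1}),
      ∀ i, mt (iSU n F q) (s : ↥(Cfsg.SU n F q)) * P i = (c i : F) • P (σ i) := by
    intro s
    obtain ⟨σ, hσ⟩ := h.perm_equiv s.2
    have h2 : ∀ i, ∃ c : {x : F // x * x ^ q = 1},
        mt (iSU n F q) (s : ↥(Cfsg.SU n F q)) * P i = (c : F) • P (σ i) := by
      intro i
      have h3 := hσ i
      rw [he, he, hT.pi] at h3
      have h4 : mt (iSU n F q) (s : ↥(Cfsg.SU n F q)) * pr P i = pr P (σ i) * mt (iSU n F q) (s : ↥(Cfsg.SU n F q)) := by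
        rw [← h3, mul_assoc, mt_inv_mul, mul_one]
      set x := mt (iSU n F q) (s : ↥(Cfsg.SU n F q)) with hx
      have h5 : x * P i = P (σ i) * ((P (σ i))ᴴ * x * P i) := by
        calc x * P i = (x * pr P i) * P i := by rw [Matrix.mul_assoc, hP.pr_P]
          _ = _ := by rw [h4, pr_def]; simp only [Matrix.mul_assoc]
      set k := (P (σ i))ᴴ * x * P i with hk
      have hk1 : k = k 0 0 • (1 : Matrix (Fin 1) (Fin 1) F) := by
        ext a b
        have ha : a = 0 := Subsingleton.elim _ _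
        have hb : b = 0 := Subsingleton.elim _ _
        subst ha hb
        simp
      have hxx : xᴴ * x = 1 := by
        rw [hx, mt_star hF hs, mt_inv_mul]
      have h6 : (x * P i)ᴴ * (x * P i) = 1 := by
        rw [Matrix.conjTranspose_mul]
        calc _ = (P i)ᴴ * (xᴴ * x) * P i := by simp only [Matrix.mul_assoc]
          _ = 1 := by rw [hxx, Matrix.mul_one, hP.self]
      have h7 : kᴴ * k = 1 := by
        rw [h5, Matrix.conjTranspose_mul] at h6
        calc kᴴ * k = kᴴ * ((P (σ i))ᴴ * P (σ i)) * k := by rw [hP.self, Matrix.mul_one]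
          _ = 1 := by rw [← h6]; simp only [Matrix.mul_assoc]
      have h8 : k 0 0 * k 0 0 ^ q = 1 := by
        have h9 := congrFun (congrFun h7 0) 0
        rw [Matrix.mul_apply, Fin.sum_univ_one, Matrix.conjTranspose_apply, hs, Matrix.one_apply_eq, mul_comm] at h9
        exact h9
      refine ⟨⟨k 0 0, h8⟩, ?_⟩
      calc x * P i = P (σ i) * (k 0 0 • (1 : Matrix (Fin 1) (Fin 1) F)) := by rw [← hk1, h5]
        _ = k 0 0 • P (σ i) := by rw [Matrix.mul_smul, Matrix.mul_one]
    choose c hc using h2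
    exact ⟨σ, c, hc⟩
  choose σ c hσc using key
  have hinj : Function.Injective (fun s : ↥(A.comap π) => (σ s, c s)) := by
    intro a b hab
    simp only [Prod.mk.injEq] at hab
    apply Subtype.ext
    apply mt_inj hM.inj
    apply ext_OF hP
    intro i
    rw [hσc, hσc, hab.1, hab.2]
  have h2 := Nat.card_le_card_of_injective _ hinj
  rw [Nat.card_prod, Nat.card_perm, Nat.card_fun, Cfsg.Agent.LieClassical.HermBasic.card_norm_eq_one hF,
    Nat.card_fin] at h2
  have h3 : Nat.factorial t * (q + 1) ^ t ≤ 24 * 36 ^ 4 := by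
    have h4 : Nat.factorial t ≤ Nat.factorial 4 := Nat.factorial_le ht4
    have h5 : (q + 1) ^ t ≤ 36 ^ 4 := (Nat.pow_le_pow_left hq t).trans (Nat.pow_le_pow_right (by norm_num) ht4)
    exact Nat.mul_le_mul h4 h5
  have h4 := card_aut_le F
  have h5 : Nat.card (F ≃+* F) ≤ 10 := by
    by_contra hcon
    push Not at hcon
    have h6 : 2 ^ 11 ≤ 2 ^ Nat.card (F ≃+* F) := Nat.pow_le_pow_right (by norm_num) hcon
    rw [hF] at h4
    have h7 : q ^ 2 ≤ 35 ^ 2 := Nat.pow_le_pow_left (by omega) 2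
    omega
  calc Nat.card A ≤ (24 * 36 ^ 4) * 10 := h1.trans (Nat.mul_le_mul (h2.trans h3) h5)
    _ ≤ 955514880 := by norm_num
    _ ≤ M d := M_ge hd

end

end Cfsg.Agent.H189.TW
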