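import Cfsg.Agent.H189.TW.TwoTwo
import Cfsg.Agent.H189.TW.LemN
import Cfsg.Agent.H189.TW.Final
import Cfsg.Agent.H189.TW.Small

/-!
# S3694, node T6: the imprimitive type, unitary case (helper189)

`frame_su_of` : if `A ∩ N` is the stabilizer of a system of idempotents, `r ≠ p`, then `|A| ≤ M d`, given the statement `CompF`
about the invariant subalgebras.
-/

set_option autoImplicit false
set_option linter.unusedSectionVars false

namespace Cfsg.Agent.H189.TW

open Matrix Subgroup Cfsg Cfsg.Agent.H607.TW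
open Cfsg.Agent.H748.TW (mt_mul mt_one mt_inj mt_mul_inv mt_inv_mul)

universe u

section

variable {G : Type u} [Group G] [Finite G] {N A C A₁ C₁ A₂ C₂ : Subgroup G} {r d : ℕ}
  {F : Type} [Field F] [Fintype F] {n : ℕ}

theorem cast_ne_zero_of (hr : r.Prime) (h : ¬ r ∣ Fintype.card F) : (r : F) ≠ 0 := by
  intro h0
  obtain ⟨p, hp⟩ := CharP.exists F
  obtain ⟨k, hprime, hcard⟩ := FiniteField.card F p
  have h1 : p ∣ r := (CharP.cast_eq_zero_iff F p r).1 h0
  have h2 : p = r := (Nat.prime_dvd_prime_iff_eq hprime hr).1 h1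
  apply h
  rw [hcard, ← h2]
  exact dvd_pow_self p k.pos.ne'

theorem frame_su_of {q : ℕ} (hF : Fintype.card F = q ^ 2) {π : ↥(Cfsg.SU n F q) →* G} (h : Sit N A C A₁ C₁ A₂ C₂ r d)
    (hr : ¬ r ∣ Fintype.card F) (hn : 3 ≤ n) (hM : Model N (iSU n F q) π)
    (hcomp : ∀ A' : Subgroup G, Loc N A' r → CompF π A') {t : ℕ} {e : Fin t → Matrix (Fin n) (Fin n) F}
    (hA : Frame (iSU n F q) π A e) : Nat.card A ≤ M d := by
  letI : StarRing F := starF hF
  have hs : ∀ x : F, Star.star x = x ^ q := fun x => rfl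
  have hn0 : 0 < n := by omega
  have hLA := h.locA
  have hLC := h.locC
  have hNn := hLA.normal
  have hc := hLA.cent
  have hrp := hLA.prime
  have hrF : (r : F) ≠ 0 := cast_ne_zero_of hrp hr
  by_cases hsmall : (n ≤ 4 ∧ q ≤ 3) ∨ (n ≤ 5 ∧ q = 2)
  · exact small_one hF hM hNn hc hn A h.five hsmall
  obtain ⟨T, hT⟩ := exists_Lf hF hs hn hM hc
  have hFA : Fr π T A e := Fr.of_frame hF hs hT hA
  have hsa := Fr.selfadj hF hs hn hLA hM hT (hcomp A hLA) hFA
  rcases Fr.equal hF hs hn hLA hM hT (hcomp A hLA) hFA with ⟨m, hmq, P, hP, he⟩ | hsm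
  swap
  · exact (hsmall hsm).elim
  have hcard := hP.card
  have hq2 := Cfsg.Agent.LieClassical.HermBasic.two_le hF
  have hm : 0 < m := by omega
  -- the data for the blocks
  by_cases h22 : m = 2 ∧ q = 2
  · obtain ⟨rfl, rfl⟩ := h22
    exact (two_two_false hF hs hn hLA hM hT hFA hP he).elim
  have hmq' : m = 1 ∨ (m = 2 ∧ q = 3) ∨ (m = 3 ∧ q = 2) := by omega
  have hnil : m ≠ 1 → NilAx F m := by
    intro hm1
    rcases hmq' with h1 | ⟨rfl, rfl⟩ | ⟨rfl, rfl⟩
    · exact (hm1 h1).elim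
    · exact nilAx_two hF hs
    · exact nilAx_three hF
  have hconj : ConjAx F m := by
    rcases hmq' with rfl | ⟨rfl, rfl⟩ | ⟨rfl, rfl⟩
    · exact conjAx_one
    · exact conjAx_two hF hs
    · exact conjAx_three hF hs
  have ht : 3 ≤ t ∨ (2 : F) = 0 := by
    rcases hmq' with rfl | ⟨rfl, rfl⟩ | ⟨rfl, rfl⟩
    · left; omega
    · left; omega
    · right; exact two_zero hF
  -- the frame of `C`
  obtain ⟨g, hg⟩ := h.conj
  have hFC0 := hFA.conj hT g
  rw [← hg] at hFC0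
  have hsa' : ∀ i, (T g (e i))ᴴ = T g (e i) := fun i => by rw [← hT.str, hsa]
  have hrk : ∀ i, Rk (T g (e i)) m := fun i => Rk.map hT g ⟨P i, (P i)ᴴ, (he i).symm, hP.self i⟩
  choose P' hP1 hP2 using fun i => Rk.on hF hs (hFC0.idem i) (hsa' i) (hrk i)
  have hP' : OF P' := by
    refine ⟨hP1, fun i j hij => ?_, ?_⟩
    · have h1 := hFC0.orth i j hij
      calc (P' i)ᴴ * P' j = ((P' i)ᴴ * P' i) * (P' i)ᴴ * P' j * ((P' j)ᴴ * P' j) := by
            rw [hP1, hP1, Matrix.one_mul, Matrix.mul_one]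
        _ = (P' i)ᴴ * ((P' i * (P' i)ᴴ) * (P' j * (P' j)ᴴ)) * P' j := by simp only [Matrix.mul_assoc]
        _ = 0 := by rw [hP2, hP2, h1, Matrix.mul_zero, Matrix.zero_mul]
    · rw [← hFC0.sum]
      exact Finset.sum_congr rfl fun i _ => hP2 i
  have he' : ∀ i, T g (e i) = pr P' i := fun i => (hP2 i).symm
  -- `C₂ ∩ N ≠ 1`
  have hC2 : C₂ ⊓ N ≠ ⊥ := by
    intro hbot
    obtain ⟨x, hxC, hx1⟩ : ∃ x ∈ C₂, x ≠ 1 := by
      by_contra hcon
      push Not at hcon
      exact h.C₂_ne ((Subgroup.eq_bot_iff_forall _).2 hcon)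
    have hC2C : C₂ ≤ C := (h.C₂_le.trans inf_le_left).trans (h.A₁_le.trans inf_le_right)
    apply hx1
    refine cent_false hF hs hn hM hT hFC0 hP' he' hm hnil hconj ht (hC2C hxC) ?_
    intro s hsC
    have h1 : x * π s * x⁻¹ * (π s)⁻¹ ∈ C₂ ⊓ N := by
      constructor
      · have h2 : π s * x⁻¹ * (π s)⁻¹ ∈ C₂ := conj_mem_of_le h.C₂_norm hsC (inv_mem hxC)
        have h3 := C₂.mul_mem hxC h2
        have e1 : x * π s * x⁻¹ * (π s)⁻¹ = x * (π s * x⁻¹ * (π s)⁻¹) := by group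
        rw [e1]
        exact h3
      · have h2 : π s ∈ N := by
          rw [← hM.range]
          exact ⟨s, rfl⟩
        exact N.mul_mem (hNn.conj_mem _ h2 x) (N.inv_mem h2)
    rw [hbot, mem_bot] at h1
    calc x * π s = (x * π s * x⁻¹ * (π s)⁻¹) * (π s * x) := by group
      _ = π s * x := by rw [h1, one_mul]
  obtain ⟨Y, hY0, hYle, hYn, hYab, hYr⟩ := exists_Y h hC2
  have hYN : Y ≤ N := hYle.trans inf_le_right
  have hYA : Y ≤ A := hYle.trans (inf_le_left.trans ((h.C₂_le.trans inf_le_left).trans (h.A₁_le.trans inf_le_left)))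
  have hYC : Y ≤ C := hYle.trans (inf_le_left.trans ((h.C₂_le.trans inf_le_left).trans (h.A₁_le.trans inf_le_right)))
  have hTWA : TWp A Y := fun a ha y hy y' hy' => Sit.tw h hYle hYn ha hy hy'
  have hTWC : TWp C Y := fun a ha y hy y' hy' => hYn _ (hYC (hYn a ha y' hy')) _ hy
  have hYp : IsPGroup r Y := (OO_pgroup hrp A).to_le (hYle.trans (inf_le_left.trans h.C₂_OO))
  -- the elements of `Y` fix both frames
  have hfixAC : ((∀ y, π y ∈ Y → ∀ i, T (π y) (pr P i) = pr P i) ∧ (∀ y, π y ∈ Y → ∀ i, T (π y) (pr P' i) = pr P' i)) ∨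
      (m = 1 ∧ t ≤ 4 ∧ q + 1 ≤ 36) := by
    by_cases hm1 : m = 1
    · by_cases ht5 : 5 ≤ t
      · left
        refine ⟨fun y hy i => ?_, fun y hy i => ?_⟩
        · exact moves_five hF hs hFA hP he hT hn0 ht5 hrp (O := OO r A) (OO_le A) (OO_pgroup hrp A)
            (fun a ha x hx => OO_norm A a ha x hx) (h.C₂_OO (hYle hy).1) i
        · exact moves_five hF hs hFC0 hP' he' hT hn0 ht5 hrp (O := Y) hYC hYp
            (fun a ha x hx => hYn a ha x hx) hy i
      · have ht3 : 3 ≤ t := by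
          rw [hm1, mul_one] at hcard
          omega
        by_cases hq : q + 1 ≤ 36
        · exact Or.inr ⟨hm1, by omega, hq⟩
        · left
          refine ⟨fun y hy => ?_, fun y hy => ?_⟩
          · exact (moves_small hF hs hFA hP he hM hT hm ht3 (by omega) hrp hYr hYA hTWA hy).resolve_right hq
          · exact (moves_small hF hs hFC0 hP' he' hM hT hm ht3 (by omega) hrp hYr hYC hTWC hy).resolve_right hq
    · left
      exact ⟨fun y hy i => moves_block hF hs hFA hP he hM hT hm (hnil hm1) hrp hrF hYr hYA hTWA hy i,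
        fun y hy i => moves_block hF hs hFC0 hP' he' hM hT hm (hnil hm1) hrp hrF hYr hYC hTWC hy i⟩
  rcases hfixAC with ⟨hfix, hfix'⟩ | ⟨hm1, ht4, hq⟩
  · exfalso
    have hinf := final_eq hF hs hn hM hT hFA hFC0 hP hP' he he' hm hconj hY0 hYN hYab hYn hTWA hfix hfix'
    refine inf_ne hLA hLC h.ne hinf ?_
    intro hbot
    apply hY0
    rw [eq_bot_iff, ← hbot]
    exact le_inf hYA hYN
  · subst hm1
    exact small_two hF hs hM hNn hc hn hT hFA hP he ht4 hq h.five

end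

end Cfsg.Agent.H189.TW
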