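import Cfsg.Agent.H607.TW.Defs
import Cfsg.Agent.H748.TW.SubBase
import Cfsg.Agent.Lib.Cores
import Mathlib.GroupTheory.SpecificGroups.Alternating.Simple

/-!
# S3694, T6: group theory (helper189)

* `perm_normal_pgroup` : normal `r`-subgroups of the symmetric group of degree at least five are trivial;
* `inf_ne` : `A ∩ N ≠ C ∩ N`;
* `exists_Y` : the elementary abelian normal subgroup `Y` of `C` in `C₂ ∩ N`;
* `Sit.tw` : the commutator property of `Y`.
-/

set_option autoImplicit false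

namespace Cfsg.Agent.H189.TW

open Subgroup Cfsg Cfsg.Agent.H607.TW

universe u

theorem perm_normal_pgroup {t r : ℕ} (ht : 5 ≤ t) (hr : r.Prime) {K : Subgroup (Equiv.Perm (Fin t))} (hK : K.Normal)
    (hp : IsPGroup r K) : K = ⊥ := by
  by_contra hne
  have hnt : Nontrivial K := (nontrivial_iff_ne_bot K).2 hne
  have : Fact r.Prime := ⟨hr⟩
  have hA : alternatingGroup (Fin t) ≤ K := Equiv.Perm.alternatingGroup_le_of_normal (by simpa using ht) hnt
  have hpA : IsPGroup r (alternatingGroup (Fin t)) := hp.to_le hA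
  obtain ⟨k, hk⟩ := (IsPGroup.iff_card).1 hpA
  have hnt2 : Nontrivial (Fin t) := Fin.nontrivial_iff_two_le.2 (by omega)
  have h2 := two_mul_nat_card_alternatingGroup (α := Fin t)
  rw [hk, Nat.card_perm, Nat.card_eq_fintype_card, Fintype.card_fin] at h2
  have h12 : 12 ∣ t.factorial := by
    have : 12 ∣ Nat.factorial 5 := by decide
    exact this.trans (Nat.factorial_dvd_factorial ht)
  rw [← h2] at h12
  have h3 : 3 ∣ r ^ k := by
    have h4 : 3 ∣ 2 * r ^ k := (by norm_num : 3 ∣ 12).trans h12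
    exact (Nat.Coprime.dvd_mul_left (by norm_num : Nat.Coprime 3 2)).1 h4
  have h4 : 2 ∣ r ^ k := by
    obtain ⟨c, hc⟩ := h12
    exact ⟨3 * c, by omega⟩
  have h5 := (Nat.prime_dvd_prime_iff_eq Nat.prime_three hr).1 (Nat.prime_three.dvd_of_dvd_pow h3)
  have h6 := (Nat.prime_dvd_prime_iff_eq Nat.prime_two hr).1 (Nat.prime_two.dvd_of_dvd_pow h4)
  omega

section

variable {G : Type u} [Group G] {N A C A₁ C₁ A₂ C₂ : Subgroup G} {r d : ℕ}

theorem inf_ne (hA : Loc N A r) (hC : Loc N C r) (hne : A ≠ C) (h : A ⊓ N = C ⊓ N) (h0 : A ⊓ N ≠ ⊥) : False := by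
  have hN := hA.normal
  have h1 : A ≤ normalizer ((A ⊓ N : Subgroup G) : Set G) := by
    apply Cfsg.Agent.H748.TW.le_normalizer_of
    intro a ha k hk
    exact ⟨A.mul_mem (A.mul_mem ha hk.1) (A.inv_mem ha), hN.conj_mem _ hk.2 _⟩
  have h2 : C ≤ normalizer ((A ⊓ N : Subgroup G) : Set G) := by
    apply Cfsg.Agent.H748.TW.le_normalizer_of
    intro a ha k hk
    rw [h] at hk ⊢
    exact ⟨C.mul_mem (C.mul_mem ha hk.1) (C.inv_mem ha), hN.conj_mem _ hk.2 _⟩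
  have h3 : A ⊔ C = ⊤ := by
    apply hA.max.2
    apply left_lt_sup.2
    intro hCA
    rcases hC.max.le_iff.1 hCA with h4 | h4
    · exact hA.max.1 h4
    · exact hne h4
  have h4 : (A ⊓ N : Subgroup G).Normal := by
    rw [← normalizer_eq_top_iff, eq_top_iff, ← h3]
    exact sup_le h1 h2
  have h5 := hA.simple
  rcases h5.eq_bot_or_eq_top_of_normal ((A ⊓ N).subgroupOf N) inferInstance with h6 | h6
  · rw [subgroupOf_eq_bot, disjoint_iff, inf_eq_left.2 inf_le_right] at h6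
    exact h0 h6
  · rw [subgroupOf_eq_top] at h6
    exact hA.not_le (h6.trans inf_le_left)

theorem OO_pgroup [Finite G] (hr : r.Prime) (A : Subgroup G) : IsPGroup r (OO r A) := by
  have : Fact r.Prime := ⟨hr⟩
  exact (Cfsg.Agent.Lib.Cores.pCore_isPGroup r).map A.subtype

theorem OO_le (A : Subgroup G) : OO r A ≤ A := by
  rintro _ ⟨x, -, rfl⟩
  exact x.2

theorem OO_norm [Finite G] (A : Subgroup G) (a : G) (ha : a ∈ A) (x : G) (hx : x ∈ OO r A) : a * x * a⁻¹ ∈ OO r A := by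
  obtain ⟨y, hy, rfl⟩ := hx
  have h1 : (Cfsg.pCore r ↥A).Normal := inferInstance
  exact ⟨⟨a, ha⟩ * y * ⟨a, ha⟩⁻¹, h1.conj_mem _ hy _, rfl⟩

theorem conj_mem_of_le {A K : Subgroup G} (h : A ≤ normalizer (K : Set G)) {a x : G} (ha : a ∈ A) (hx : x ∈ K) :
    a * x * a⁻¹ ∈ K := (mem_normalizer_iff.1 (h ha) x).1 hx

/-- a nontrivial elementary abelian normal subgroup of `C` in `C₂ ∩ N` -/
theorem exists_Y [Finite G] (h : Sit N A C A₁ C₁ A₂ C₂ r d) (hne : C₂ ⊓ N ≠ ⊥) :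
    ∃ Y : Subgroup G, Y ≠ ⊥ ∧ Y ≤ C₂ ⊓ N ∧ (∀ c ∈ C, ∀ y ∈ Y, c * y * c⁻¹ ∈ Y) ∧ (∀ x ∈ Y, ∀ y ∈ Y, x * y = y * x) ∧
      ∀ y ∈ Y, y ^ r = 1 := by
  have hr := h.locA.prime
  have : Fact r.Prime := ⟨hr⟩
  set K := C₂ ⊓ N with hK
  have hKp : IsPGroup r K := (OO_pgroup hr A).to_le (inf_le_left.trans h.C₂_OO)
  have hKnt : Nontrivial K := (nontrivial_iff_ne_bot K).2 hne
  have hZ : Nontrivial (center K) := hKp.center_nontrivial
  let Y : Subgroup G :=
    { carrier := {y | y ∈ K ∧ (∀ k ∈ K, y * k = k * y) ∧ y ^ r = 1}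
      mul_mem' := by
        rintro a b ⟨ha1, ha2, ha3⟩ ⟨hb1, hb2, hb3⟩
        refine ⟨mul_mem ha1 hb1, fun k hk => ?_, ?_⟩
        · rw [mul_assoc, hb2 k hk, ← mul_assoc, ha2 k hk, mul_assoc]
        · rw [(show Commute a b from ha2 b hb1).mul_pow, ha3, hb3, one_mul]
      one_mem' := ⟨one_mem _, fun k _ => by rw [one_mul, mul_one], one_pow _⟩
      inv_mem' := by
        rintro a ⟨ha1, ha2, ha3⟩
        refine ⟨inv_mem ha1, fun k hk => ?_, by rw [inv_pow, ha3, inv_one]⟩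
        have h1 := ha2 k hk
        calc a⁻¹ * k = a⁻¹ * (k * a) * a⁻¹ := by group
          _ = k * a⁻¹ := by rw [← h1]; group }
  have hmem : ∀ y, y ∈ Y ↔ (y ∈ K ∧ (∀ k ∈ K, y * k = k * y) ∧ y ^ r = 1) := fun y => Iff.rfl
  refine ⟨Y, ?_, ?_, ?_, ?_, ?_⟩
  · intro hbot
    have hp2 : IsPGroup r (center K) := hKp.to_subgroup _
    obtain ⟨k, hk0, hk⟩ := (IsPGroup.nontrivial_iff_card hp2).1 hZ
    have hdvd : r ∣ Nat.card (center K) := by
      rw [hk]
      exact dvd_pow_self r (by omega)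
    obtain ⟨z, hz⟩ := exists_prime_orderOf_dvd_card' r hdvd
    have hzY : ((z : K) : G) ∈ Y := by
      refine ⟨(z : K).2, fun k hk => ?_, ?_⟩
      · have h1 := mem_center_iff.1 z.2 ⟨k, hk⟩
        exact (congrArg (fun w : K => (w : G)) h1).symm
      · have h1 : z ^ r = 1 := by rw [← hz]; exact pow_orderOf_eq_one z
        have h2 := congrArg (fun w : center K => ((w : K) : G)) h1
        exact h2
    rw [hbot, mem_bot] at hzY
    have h3 : z = 1 := Subtype.ext (Subtype.ext hzY)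
    rw [h3, orderOf_one] at hz
    exact hr.one_lt.ne hz
  · intro y hy
    exact hy.1
  · intro c hc y hy
    obtain ⟨hy1, hy2, hy3⟩ := hy
    have hN := h.locA.normal
    have hKc : ∀ c ∈ C, ∀ k ∈ K, c * k * c⁻¹ ∈ K := by
      intro c hc k hk
      exact ⟨conj_mem_of_le h.C₂_norm hc hk.1, hN.conj_mem _ hk.2 _⟩
    refine ⟨hKc c hc y hy1, fun k hk => ?_, ?_⟩
    · have h1 := hy2 _ (hKc c⁻¹ (inv_mem hc) k hk)
      rw [inv_inv] at h1
      calc c * y * c⁻¹ * k = c * (y * (c⁻¹ * k * c)) * c⁻¹ := by group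
        _ = k * (c * y * c⁻¹) := by rw [h1]; group
    · rw [conj_pow, hy3]
      group
  · intro x hx y hy
    exact hx.2.1 y hy.1
  · intro y hy
    exact hy.2.2

/-- the Thompson-Wielandt property -/
theorem Sit.tw (h : Sit N A C A₁ C₁ A₂ C₂ r d) {Y : Subgroup G} (hY : Y ≤ C₂ ⊓ N) (hYC : ∀ c ∈ C, ∀ y ∈ Y, c * y * c⁻¹ ∈ Y)
    {a y y' : G} (ha : a ∈ A) (hy : y ∈ Y) (hy' : y' ∈ Y) : (a * y' * a⁻¹) * y * (a * y' * a⁻¹)⁻¹ ∈ Y := by
  apply hYC _ _ _ hy
  have h1 : y' ∈ A₁ := (h.C₂_le.trans inf_le_left) (hY hy').1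
  have h2 : a * y' * a⁻¹ ∈ A₁ := conj_mem_of_le h.A₁_norm ha h1
  exact (h.A₁_le h2).2

end

end Cfsg.Agent.H189.TW
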