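import Cfsg.Agent.H189.TW.Fr

/-!
# S3694, T6: the ranks of the idempotents of a frame are equal (helper189)

* `Fr.perm_equiv` : the permutation of the frame;
* `Fr.equal` : the ranks are equal, or `n ≤ 4`, `q ≤ 3`, or `n ≤ 5`, `q = 2`.
-/

set_option autoImplicit false
set_option linter.unusedSectionVars false

namespace Cfsg.Agent.H189.TW

open Matrix Subgroup Cfsg Cfsg.Agent.H607.TW
open Cfsg.Agent.H748.TW (mt_mul mt_one mt_inj mt_mul_inv mt_inv_mul HE HE_le mem_HE finite_S le_or_eq le_normalizer_of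
  map_le_N)
open scoped commutatorElement

universe u

section

variable {G : Type u} [Group G] {F : Type} [Field F] [Fintype F] [StarRing F] {q n : ℕ} (hF : Fintype.card F = q ^ 2)
  (hs : ∀ x : F, Star.star x = x ^ q) {π : ↥(Cfsg.SU n F q) →* G}
  {T : G →* RingAut (Matrix (Fin n) (Fin n) F)} {N A : Subgroup G} {r : ℕ}

theorem Fr.perm_equiv {D : Subgroup G} {t : ℕ} {e : Fin t → Matrix (Fin n) (Fin n) F} (h : Fr π T D e) {a : G}
    (ha : a ∈ D) : ∃ k : Equiv.Perm (Fin t), ∀ i, T a (e i) = e (k i) := by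
  choose f hf using h.perm a ha
  have hinj : Function.Injective f := by
    intro i j hij
    apply h.inj
    apply (T a).injective
    rw [hf, hf, hij]
  exact ⟨Equiv.ofBijective f (Finite.injective_iff_bijective.1 hinj), hf⟩

/-- the elements of `S` fixing `f` or mapping it to `1 - f` -/
def flip (π : ↥(Cfsg.SU n F q) →* G) (T : G →* RingAut (Matrix (Fin n) (Fin n) F)) (f : Matrix (Fin n) (Fin n) F) :
    Subgroup ↥(Cfsg.SU n F q) where
  carrier := {s | T (π s) f = f ∨ T (π s) f = 1 - f}
  mul_mem' := by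
    intro a b ha hb
    change T (π (a * b)) f = f ∨ T (π (a * b)) f = 1 - f
    rw [map_mul, T_mul]
    rcases ha with ha | ha <;> rcases hb with hb | hb <;> rw [hb] <;> simp only [map_sub, map_one, ha]
    · exact Or.inl trivial
    · exact Or.inr trivial
    · exact Or.inr trivial
    · left
      abel
  one_mem' := by
    left
    rw [map_one, map_one, RingAut.one_apply]
  inv_mem' := by
    intro a ha
    change T (π a⁻¹) f = f ∨ T (π a⁻¹) f = 1 - f
    rw [map_inv]
    rcases ha with ha | ha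
    · left
      conv_lhs => rw [← ha]
      rw [T_inv]
    · right
      have h1 := congrArg (T (π a)⁻¹) ha
      rw [T_inv, map_sub, map_one] at h1
      calc T (π a)⁻¹ f = 1 - (1 - T (π a)⁻¹ f) := by abel
        _ = 1 - f := by rw [← h1]

theorem mem_flip {f : Matrix (Fin n) (Fin n) F} {s : ↥(Cfsg.SU n F q)} :
    s ∈ flip π T f ↔ (T (π s) f = f ∨ T (π s) f = 1 - f) := Iff.rfl

include hF hs in
theorem swap_false (hn : 3 ≤ n) (hL : Loc N A r) (hM : Model N (iSU n F q) π) (hT : Lf π T)
    {f : Matrix (Fin n) (Fin n) F} (hff : f * f = f) (hfs : fᴴ = f) (h0 : f ≠ 0) (h1 : f ≠ 1)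
    (hA : ∀ a ∈ A, T a f = f) {w : ℕ} (hw : Rk f w) (hw' : Rk (1 - f) w) : False := by
  have hn0 : 0 < n := by omega
  have hff' : (1 - f) * (1 - f) = 1 - f := by
    rw [sub_mul, one_mul, mul_sub, mul_one, hff]
    abel
  have hfs' : (1 - f)ᴴ = 1 - f := by rw [Matrix.conjTranspose_sub, Matrix.conjTranspose_one, hfs]
  obtain ⟨P0, h2, h3⟩ := Rk.on hF hs hff hfs hw
  obtain ⟨P1, h4, h5⟩ := Rk.on hF hs hff' hfs' hw'
  have hf1 : f * (1 - f) = 0 := by rw [mul_sub, mul_one, hff, sub_self]
  have h01 : P0ᴴ * P1 = 0 := by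
    calc P0ᴴ * P1 = (P0ᴴ * P0) * P0ᴴ * P1 * (P1ᴴ * P1) := by rw [h2, h4, Matrix.one_mul, Matrix.mul_one]
      _ = P0ᴴ * ((P0 * P0ᴴ) * (P1 * P1ᴴ)) * P1 := by simp only [Matrix.mul_assoc]
      _ = 0 := by rw [h3, h5, hf1, Matrix.mul_zero, Matrix.zero_mul]
  have h10 : P1ᴴ * P0 = 0 := by
    have := congrArg Matrix.conjTranspose h01
    rwa [Matrix.conjTranspose_mul, Matrix.conjTranspose_conjTranspose, Matrix.conjTranspose_zero] at this
  have hOF : OF ![P0, P1] := by
    refine ⟨fun i => ?_, fun i j hij => ?_, ?_⟩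
    · fin_cases i
      · exact h2
      · exact h4
    · fin_cases i <;> fin_cases j
      · exact (hij rfl).elim
      · exact h01
      · exact h10
      · exact (hij rfl).elim
    · rw [Fin.sum_univ_two]
      change P0 * P0ᴴ + P1 * P1ᴴ = 1
      rw [h3, h5]
      abel
  have hne : (0 : Fin 2) ≠ 1 := by decide
  obtain ⟨s, hsr⟩ := exists_rot hF hs hOF hn0 hne
  have hrot : T (π s) f = 1 - f := by
    have e1 : mt (iSU n F q) s * f = (1 - f) * mt (iSU n F q) s := by
      rw [hsr]
      apply ext_OF hOF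
      intro i
      rw [Matrix.mul_assoc, Matrix.mul_assoc]
      have hfP0 : f * P0 = P0 := by rw [← h3, Matrix.mul_assoc, h2, Matrix.mul_one]
      have hfP1 : f * P1 = 0 := by
        rw [← h3, Matrix.mul_assoc, h01, Matrix.mul_zero]
      have e2 := rot_P hOF hne
      have e3 := rot_P' hOF hne
      fin_cases i
      · change rot ![P0, P1] 0 1 * (f * P0) = (1 - f) * (rot ![P0, P1] 0 1 * P0)
        change rot ![P0, P1] 0 1 * P0 = -P1 at e2
        rw [hfP0, e2, Matrix.mul_neg, Matrix.sub_mul, Matrix.one_mul, hfP1, sub_zero]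
      · change rot ![P0, P1] 0 1 * (f * P1) = (1 - f) * (rot ![P0, P1] 0 1 * P1)
        change rot ![P0, P1] 0 1 * P1 = P0 at e3
        rw [hfP1, e3, Matrix.mul_zero, Matrix.sub_mul, Matrix.one_mul, hfP0, sub_self]
    rw [hT.pi, e1, mul_assoc, mt_mul_inv, mul_one]
  have hAinv : ∀ a ∈ A, T a⁻¹ f = f := fun a ha => hA a⁻¹ (inv_mem ha)
  have hnorm : A ≤ normalizer (((flip π T f).map π : Subgroup G) : Set G) := by
    apply le_normalizer_of
    rintro a ha _ ⟨k, hk, rfl⟩
    obtain ⟨k', h6, h7⟩ := hT.conj a k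
    refine ⟨k', ?_, h7⟩
    change T (π k') f = f ∨ T (π k') f = 1 - f
    rw [h7, T_mul, T_mul, hAinv a ha]
    rcases hk with hk | hk
    · rw [hk, hA a ha]
      exact Or.inl rfl
    · rw [hk, map_sub, map_one, hA a ha]
      exact Or.inr rfl
  rcases le_or_eq hL (map_le_N hM _) hnorm with h6 | h6
  · have h7 : π s ∈ A := h6 ⟨s, Or.inr hrot, rfl⟩
    have h8 := hA _ h7
    rw [hrot] at h8
    rw [h8, hff] at hf1
    exact h0 hf1
  · have h7 : ∀ s, T (π s) f = f ∨ T (π s) f = 1 - f := by
      intro s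
      have h8 : π s ∈ (flip π T f).map π := by
        rw [h6, ← hM.range]
        exact ⟨s, rfl⟩
      obtain ⟨k, hk, hks⟩ := h8
      rw [← hks]
      exact hk
    let S0 : Subgroup ↥(Cfsg.SU n F q) :=
      { carrier := {s | T (π s) f = f}
        mul_mem' := by
          intro a b ha hb
          change T (π (a * b)) f = f
          rw [map_mul, T_mul]
          exact (congrArg _ hb).trans ha
        one_mem' := by
          change T (π 1) f = f
          rw [map_one, map_one, RingAut.one_apply]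
        inv_mem' := by
          intro a ha
          change T (π a⁻¹) f = f
          rw [map_inv]
          have h8 := congrArg (T (π a)⁻¹) ha
          rw [T_inv] at h8
          exact h8.symm }
    have h8 : commutator ↥(Cfsg.SU n F q) ≤ S0 := by
      rw [commutator_def, Subgroup.commutator_le]
      intro a _ b _
      change T (π ⁅a, b⁆) f = f
      have e0 : π ⁅a, b⁆ = π a * π b * π a⁻¹ * π b⁻¹ := by
        rw [commutatorElement_def, map_mul, map_mul, map_mul]
      rw [e0, T_mul, T_mul, T_mul]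
      have e1 : ∀ a, T (π a⁻¹) f = T (π a) f := by
        intro a
        rw [map_inv]
        rcases h7 a with h9 | h9
        · rw [h9]
          have h10 := congrArg (T (π a)⁻¹) h9
          rw [T_inv] at h10
          exact h10.symm
        · rw [h9]
          have h10 := congrArg (T (π a)⁻¹) h9
          rw [T_inv, map_sub, map_one] at h10
          calc T (π a)⁻¹ f = 1 - (1 - T (π a)⁻¹ f) := by abel
            _ = 1 - f := by rw [← h10]
      rw [e1]
      rcases h7 a with h9 | h9 <;> rcases h7 b with h10 | h10 <;>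
        simp only [h10, e1, h9, map_sub, map_one, sub_sub_cancel]
    have h9 : ∀ s, T (π s) f = f := by
      intro s
      have h10 : s ∈ S0 := h8 (by rw [hM.perfect]; trivial)
      exact h10
    have h10 : ∀ s, f * mt (iSU n F q) s = mt (iSU n F q) s * f := by
      intro s
      have h11 := h9 s
      rw [hT.pi] at h11
      calc f * mt (iSU n F q) s = mt (iSU n F q) s * f * (mt (iSU n F q) s⁻¹ * mt (iSU n F q) s) := by
            rw [← mul_assoc, h11]
        _ = _ := by rw [mt_inv_mul, mul_one]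
    obtain ⟨c, hc⟩ := Cfsg.Agent.H296.TW.scalar_of_commute hM.span h10
    have h11 : Subalgebra.centralizer F ({f} : Set (Matrix (Fin n) (Fin n) F)) ≠ ⊤ :=
      cent_ne_top hn0 (Set.mem_singleton f) hff h0 h1
    apply h11
    rw [eq_top_iff]
    intro x _
    rw [Subalgebra.mem_centralizer_iff]
    intro y hy
    rw [Set.mem_singleton_iff.1 hy, hc, smul_mul_assoc, one_mul, mul_smul_comm, mul_one]

include hF hs in
/-- **the ranks are equal** (or everything is small) -/
theorem Fr.equal (hn : 3 ≤ n) (hL : Loc N A r) (hM : Model N (iSU n F q) π) (hT : Lf π T) (hcomp : CompF π A)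
    {t : ℕ} {e : Fin t → Matrix (Fin n) (Fin n) F} (h : Fr π T A e) :
    (∃ m, (m = 1 ∨ (m = 2 ∧ (q = 2 ∨ q = 3)) ∨ (m = 3 ∧ q = 2)) ∧
      ∃ P : Fin t → Matrix (Fin n) (Fin m) F, OF P ∧ ∀ i, e i = pr P i) ∨
    (n ≤ 4 ∧ q ≤ 3) ∨ (n ≤ 5 ∧ q = 2) := by
  classical
  have hsa := Fr.selfadj hF hs hn hL hM hT hcomp h
  have hn0 : 0 < n := by omega
  choose w hw using fun i => exists_rk (h.idem i)
  have hw1 : ∀ i, w i = 1 ∨ ((w i = 2 ∧ (q = 2 ∨ q = 3)) ∨ (w i = 3 ∧ q = 2)) := by
    intro i
    rcases h.rank hn hT hcomp hs (hw i) with h1 | ⟨-, h1⟩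
    · exact Or.inl h1
    · exact Or.inr h1
  have ht := h.two
  let i0 : Fin t := ⟨0, by omega⟩
  by_cases hall : ∀ i, w i = w i0
  · left
    refine ⟨w i0, hw1 i0, ?_⟩
    have hw2 : ∀ i, Rk (e i) (w i0) := fun i => hall i ▸ hw i
    choose P hP1 hP2 using fun i => Rk.on hF hs (h.idem i) (hsa i) (hw2 i)
    refine ⟨P, ⟨hP1, fun i j hij => ?_, ?_⟩, fun i => (hP2 i).symm⟩
    · calc (P i)ᴴ * P j = ((P i)ᴴ * P i) * (P i)ᴴ * P j * ((P j)ᴴ * P j) := by
            rw [hP1, hP1, Matrix.one_mul, Matrix.mul_one]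
        _ = (P i)ᴴ * ((P i * (P i)ᴴ) * (P j * (P j)ᴴ)) * P j := by simp only [Matrix.mul_assoc]
        _ = 0 := by rw [hP2, hP2, h.orth i j hij, Matrix.mul_zero, Matrix.zero_mul]
    · rw [← h.sum]
      exact Finset.sum_congr rfl fun i _ => hP2 i
  · right
    push Not at hall
    obtain ⟨j0, hj0⟩ := hall
    let I : Finset (Fin t) := Finset.univ.filter fun k => w k = w i0
    let f : Matrix (Fin n) (Fin n) F := ∑ k ∈ I, e k
    have hfe : ∀ k, f * e k = if w k = w i0 then e k else 0 := by
      intro k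
      rw [Finset.sum_mul]
      split_ifs with hk
      · rw [Finset.sum_eq_single k]
        · exact h.idem k
        · intro j _ hjk
          exact h.orth j k hjk
        · intro hk'
          exact (hk' (Finset.mem_filter.2 ⟨Finset.mem_univ _, hk⟩)).elim
      · apply Finset.sum_eq_zero
        intro j hj
        apply h.orth
        rintro rfl
        exact hk (Finset.mem_filter.1 hj).2
    have hff : f * f = f := by
      change f * ∑ k ∈ I, e k = ∑ k ∈ I, e k
      rw [Finset.mul_sum]
      apply Finset.sum_congr rfl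
      intro k hk
      rw [hfe, if_pos (Finset.mem_filter.1 hk).2]
    have hfs : fᴴ = f := by
      change (∑ k ∈ I, e k)ᴴ = ∑ k ∈ I, e k
      rw [Matrix.conjTranspose_sum]
      exact Finset.sum_congr rfl fun k _ => hsa k
    have hf0 : f ≠ 0 := by
      intro h0
      have h1 := hfe i0
      rw [if_pos rfl, h0, zero_mul] at h1
      exact h.ne i0 h1.symm
    have hf1 : f ≠ 1 := by
      intro h0
      have h1 := hfe j0
      rw [if_neg hj0, h0, one_mul] at h1
      exact h.ne j0 h1
    have hfA : ∀ a ∈ A, T a f = f := by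
      intro a ha
      obtain ⟨k, hk⟩ := h.perm_equiv ha
      change T a (∑ k ∈ I, e k) = ∑ k ∈ I, e k
      rw [map_sum]
      have hwk : ∀ i, w (k i) = w i := by
        intro i
        have h1 : Rk (e (k i)) (w i) := by
          rw [← hk]
          exact (hw i).map hT a
        exact (hw (k i)).unique h1
      refine Finset.sum_bij (fun i _ => k i) ?_ ?_ ?_ ?_
      · intro i hi
        rw [Finset.mem_filter] at hi ⊢
        exact ⟨Finset.mem_univ _, by rw [hwk, hi.2]⟩
      · intro i _ j _ hij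
        exact k.injective hij
      · intro j hj
        refine ⟨k.symm j, ?_, k.apply_symm_apply j⟩
        rw [Finset.mem_filter] at hj ⊢
        refine ⟨Finset.mem_univ _, ?_⟩
        rw [← hwk, k.apply_symm_apply, hj.2]
      · intro i _
        exact hk i
    have hff' : (1 - f) * (1 - f) = 1 - f := by
      rw [sub_mul, one_mul, mul_sub, mul_one, hff]
      abel
    obtain ⟨w1, hw1'⟩ := exists_rk hff
    obtain ⟨w2, hw2'⟩ := exists_rk hff'
    have hX1 : ∀ a ∈ A, ∀ x ∈ ({f} : Set (Matrix (Fin n) (Fin n) F)), T a x ∈ ({f} : Set (Matrix (Fin n) (Fin n) F)) := by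
      intro a ha x hx
      rw [Set.mem_singleton_iff] at hx ⊢
      rw [hx, hfA a ha]
    have hX2 : ∀ x ∈ ({f} : Set (Matrix (Fin n) (Fin n) F)), xᴴ ∈ ({f} : Set (Matrix (Fin n) (Fin n) F)) := by
      intro x hx
      rw [Set.mem_singleton_iff] at hx ⊢
      rw [hx, hfs]
    have hX3 := cent_ne_top hn0 (Set.mem_singleton f) hff hf0 hf1
    have e1 := comp_cent hs hT hcomp hX1 hX2 hX3 (f := f) (by
      intro x hx
      rw [Set.mem_singleton_iff] at hx
      exact ⟨1, by rw [hx, hff, one_smul], by rw [hx, hff, one_smul]⟩)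
      (fun z hz => hz f (Set.mem_singleton f)) hw1'
    have e2 := comp_cent hs hT hcomp hX1 hX2 hX3 (f := 1 - f) (by
      intro x hx
      rw [Set.mem_singleton_iff] at hx
      refine ⟨0, ?_, ?_⟩
      · rw [hx, sub_mul, one_mul, hff, sub_self, zero_smul]
      · rw [hx, mul_sub, mul_one, hff, sub_self, zero_smul])
      (fun z hz => by
        have := hz f (Set.mem_singleton f)
        rw [sub_mul, mul_sub, one_mul, mul_one, this]) hw2'
    have e3 := hw1'.pos hf0
    have e4 := hw2'.pos (fun h0 => hf1 (sub_eq_zero.1 h0).symm)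
    have e5 := hw1'.add hw2'
    by_cases h33 : w1 = 3 ∧ w2 = 3
    · exfalso
      obtain ⟨rfl, rfl⟩ := h33
      exact swap_false hF hs hn hL hM hT hff hfs hf0 hf1 hfA hw1' hw2'
    · rcases e1 with e1 | ⟨-, e1⟩ <;> rcases e2 with e2 | ⟨-, e2⟩ <;> omega

end

end Cfsg.Agent.H189.TW
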