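import Cfsg.Agent.H189.TW.Cent
import Cfsg.Agent.H189.TW.Rank
import Cfsg.Agent.H189.TW.Grp

/-!
# S3694, T6: the elements of `Y` fix the frames (helper189)

`moves`.
-/

set_option autoImplicit false
set_option linter.unusedSectionVars false

namespace Cfsg.Agent.H189.TW

open Matrix Subgroup Cfsg Cfsg.Agent.H607.TW
open Cfsg.Agent.H748.TW (mt_mul mt_one mt_inj mt_mul_inv mt_inv_mul)

universe u

section Comm

variable {G : Type u} [Group G]

/-- the Thompson-Wielandt property of `Y` with respect to `D` -/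
def TWp (D Y : Subgroup G) : Prop :=
  ∀ a ∈ D, ∀ y ∈ Y, ∀ y' ∈ Y, (a * y' * a⁻¹) * y * (a * y' * a⁻¹)⁻¹ ∈ Y

theorem TWp.comm {D Y : Subgroup G} (h : TWp D Y) {a y : G} (ha : a ∈ D) (hy : y ∈ Y) :
    y * (y * a * y⁻¹ * a⁻¹) * y⁻¹ * (y * a * y⁻¹ * a⁻¹)⁻¹ ∈ Y := by
  have h1 := h a ha y⁻¹ (inv_mem hy) y⁻¹ (inv_mem hy)
  have h2 := Y.mul_mem hy (Y.mul_mem (Y.mul_mem hy h1) (Y.inv_mem hy))
  have e : y * (y * a * y⁻¹ * a⁻¹) * y⁻¹ * (y * a * y⁻¹ * a⁻¹)⁻¹ =
      y * (y * (a * y⁻¹ * a⁻¹ * y⁻¹ * (a * y⁻¹ * a⁻¹)⁻¹) * y⁻¹) := by group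
  rw [e]
  exact h2

/-- the simple commutator with a conjugate -/
theorem TWp.comm' {D Y : Subgroup G} (h : TWp D Y) {a y : G} (ha : a ∈ D) (hy : y ∈ Y) :
    y * (a * y * a⁻¹) * y⁻¹ * (a * y * a⁻¹)⁻¹ ∈ Y := by
  have h1 := h a ha y⁻¹ (inv_mem hy) y hy
  have h2 := Y.mul_mem hy h1
  have e : y * (a * y * a⁻¹) * y⁻¹ * (a * y * a⁻¹)⁻¹ = y * (a * y * a⁻¹ * y⁻¹ * (a * y * a⁻¹)⁻¹) := by group
  rw [e]
  exact h2

end Comm

section

variable {G : Type u} [Group G] {F : Type} [Field F] [Fintype F] [StarRing F] {q n m t : ℕ}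
  (hF : Fintype.card F = q ^ 2) (hs : ∀ x : F, Star.star x = x ^ q) {π : ↥(Cfsg.SU n F q) →* G}
  {T : G →* RingAut (Matrix (Fin n) (Fin n) F)} {N D : Subgroup G}
  {P : Fin t → Matrix (Fin n) (Fin m) F} {e : Fin t → Matrix (Fin n) (Fin n) F} {r : ℕ}

theorem Fr.exists_hom (h : Fr π T D e) : ∃ φ : ↥D →* Equiv.Perm (Fin t), ∀ (a : ↥D) i, T (a : G) (e i) = e (φ a i) := by
  choose φ hφ using fun a : ↥D => h.perm_equiv a.2
  refine ⟨MonoidHom.mk' φ ?_, hφ⟩
  intro a b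
  ext i
  congr 1
  apply h.inj
  rw [← hφ, Subgroup.coe_mul, T_mul, hφ, hφ]
  rfl

include hF hs in
/-- every permutation of the frame is induced -/
theorem exists_perm (h : Fr π T D e) (hP : OF P) (he : ∀ i, e i = pr P i) (hT : Lf π T) (hn : 0 < n)
    (σ : Equiv.Perm (Fin t)) : ∃ s, π s ∈ D ∧ ∀ i, T (π s) (pr P i) = pr P (σ i) := by
  have key : ∃ s : ↥(Cfsg.SU n F q), ∀ i, T (π s) (pr P i) = pr P (σ i) := by
    refine Equiv.Perm.swap_induction_on σ ⟨1, fun i => ?_⟩ ?_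
    · rw [map_one, map_one, RingAut.one_apply]
      rfl
    · rintro f x y hxy ⟨s, hs1⟩
      obtain ⟨w, -, hw⟩ := exists_rot_T hF hs hP hT hn hxy
      refine ⟨w * s, fun i => ?_⟩
      rw [map_mul, T_mul, hs1, hw]
      rfl
  obtain ⟨s, hs1⟩ := key
  refine ⟨s, h.stab s fun i => ⟨σ i, ?_⟩, hs1⟩
  rw [he, he, hs1]

include hF hs in
/-- degree at least five -/
theorem moves_five (h : Fr π T D e) (hP : OF P) (he : ∀ i, e i = pr P i) (hT : Lf π T) (hn : 0 < n) (ht : 5 ≤ t)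
    (hr : r.Prime) {O : Subgroup G} (hOD : O ≤ D) (hO : IsPGroup r O) (hOn : ∀ a ∈ D, ∀ x ∈ O, a * x * a⁻¹ ∈ O) {x : G}
    (hx : x ∈ O) (i : Fin t) : T x (pr P i) = pr P i := by
  obtain ⟨φ, hφ⟩ := h.exists_hom
  let K : Subgroup (Equiv.Perm (Fin t)) := (O.subgroupOf D).map φ
  have hK : K.Normal := by
    refine ⟨?_⟩
    rintro _ ⟨a, ha, rfl⟩ σ
    obtain ⟨s, hsD, hs1⟩ := exists_perm hF hs h hP he hT hn σ
    have hσ : φ ⟨π s, hsD⟩ = σ := by
      ext j
      congr 1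
      apply h.inj
      rw [← hφ, he, hs1, ← he]
    refine ⟨⟨π s, hsD⟩ * a * ⟨π s, hsD⟩⁻¹, hOn _ hsD _ ha, ?_⟩
    rw [map_mul, map_mul, map_inv, hσ]
  have hKp : IsPGroup r K := (hO.comap_of_injective _ (subtype_injective D)).map φ
  have h1 := perm_normal_pgroup ht hr hK hKp
  have h2 : φ ⟨x, hOD hx⟩ = 1 := by
    have : φ ⟨x, hOD hx⟩ ∈ K := ⟨⟨x, hOD hx⟩, hx, rfl⟩
    rwa [h1, mem_bot] at this
  have h3 := hφ ⟨x, hOD hx⟩ i
  rw [h2, he, he] at h3
  exact h3

theorem T_pow (x : G) (k : ℕ) {f : Fin t → Matrix (Fin n) (Fin n) F} {σ : Equiv.Perm (Fin t)}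
    (h : ∀ i, T x (f i) = f (σ i)) (i : Fin t) : T (x ^ k) (f i) = f ((σ ^ k) i) := by
  induction k with
  | zero => rw [pow_zero, pow_zero, map_one, RingAut.one_apply]; rfl
  | succ k ih => rw [pow_succ', T_mul, ih, h, pow_succ']; rfl

include hF hs in
/-- blocks of dimension at least two -/
theorem moves_block (h : Fr π T D e) (hP : OF P) (he : ∀ i, e i = pr P i) (hM : Model N (iSU n F q) π) (hT : Lf π T)
    (hm : 0 < m) (hnil : NilAx F m) (hr : r.Prime) (hrF : (r : F) ≠ 0) {Y : Subgroup G} (hYr : ∀ y ∈ Y, y ^ r = 1)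
    (hYD : Y ≤ D) (hTW : TWp D Y) {y : ↥(Cfsg.SU n F q)} (hy : π y ∈ Y) (i : Fin t) : T (π y) (pr P i) = pr P i := by
  obtain ⟨σ, hσ⟩ := h.perm_equiv (hYD hy)
  simp only [he] at hσ
  by_contra hne
  have hki : σ i ≠ i := by
    intro h1
    rw [hσ, h1] at hne
    exact hne rfl
  obtain ⟨ν, hν1, hν2, hν3⟩ := hnil
  have hα : (1 + ν)ᴴ * (1 + ν) = 1 := by
    rw [Matrix.conjTranspose_add, Matrix.conjTranspose_one, hν3]
    calc (1 + -ν) * (1 + ν) = 1 - ν * ν := by noncomm_ring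
      _ = 1 := by rw [hν1, sub_zero]
  obtain ⟨s, hs1⟩ := exists_blk hF hs hP i hα (Cfsg.Agent.H748.TW.det_one_add hm ⟨2, by rw [pow_two, hν1]⟩)
  have hsD : π s ∈ D := h.mem_of_comm hT he (fun k => by rw [hs1, blk_comm hP])
  set νi := P i * ν * (P i)ᴴ with hνi
  have hsν : mt (iSU n F q) s = 1 + νi := by rw [hs1, blk_def, add_sub_cancel_left]
  have hpν : pr P i * νi = νi := by rw [hνi, ← Matrix.mul_assoc, ← Matrix.mul_assoc, hP.pr_P]
  have hνp : νi * pr P i = νi := by rw [hνi, Matrix.mul_assoc, hP.Ps_pr]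
  have hνν : νi * νi = 0 := by
    calc _ = P i * (ν * ((P i)ᴴ * P i) * ν) * (P i)ᴴ := by rw [hνi]; simp only [Matrix.mul_assoc]
      _ = 0 := by rw [hP.self, Matrix.mul_one, hν1, Matrix.mul_zero, Matrix.zero_mul]
  have hν0 : νi ≠ 0 := by
    intro h0
    apply hν2
    calc ν = (P i)ᴴ * νi * P i := by
          rw [hνi]
          have : (P i)ᴴ * (P i * ν * (P i)ᴴ) * P i = ((P i)ᴴ * P i) * ν * ((P i)ᴴ * P i) := by
            simp only [Matrix.mul_assoc]
          rw [this, hP.self, Matrix.one_mul, Matrix.mul_one]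
      _ = 0 := by rw [h0, Matrix.mul_zero, Matrix.zero_mul]
  have hsi : mt (iSU n F q) s⁻¹ = 1 - νi := by
    have h1 : mt (iSU n F q) s * (1 - νi) = 1 := by
      rw [hsν]
      calc (1 + νi) * (1 - νi) = 1 - νi * νi := by noncomm_ring
        _ = 1 := by rw [hνν, sub_zero]
    calc mt (iSU n F q) s⁻¹ = mt (iSU n F q) s⁻¹ * (mt (iSU n F q) s * (1 - νi)) := by rw [h1, mul_one]
      _ = 1 - νi := by rw [← mul_assoc, mt_inv_mul, one_mul]
  set ν' := T (π y) νi with hν'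
  set ν'' := T (π y) ν' with hν''
  have hν'p : ν' * pr P i = 0 := by
    have h1 : ν' * pr P (σ i) = ν' := by rw [hν', ← hσ, ← map_mul, hνp]
    rw [← h1, mul_assoc, hP.pr_mul_ne hki, mul_zero]
  have hν'ν : ν' * νi = 0 := by rw [← hpν, ← mul_assoc, hν'p, zero_mul]
  have hν'ν' : ν' * ν' = 0 := by rw [hν', ← map_mul, hνν, map_zero]
  -- the commutators
  set u := y * s * y⁻¹ * s⁻¹ with hu
  set w := y * u * y⁻¹ * u⁻¹ with hw
  have hmu : mt (iSU n F q) u = 1 + ν' - νi := by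
    rw [hu, mt_mul, mt_mul, mt_mul, ← hT.pi, hsν, hsi, map_add, map_one, ← hν']
    calc (1 + ν') * (1 - νi) = 1 + ν' - νi - ν' * νi := by noncomm_ring
      _ = _ := by rw [hν'ν, sub_zero]
  have hmui : mt (iSU n F q) u⁻¹ = 1 + νi - ν' := by
    have h1 : u⁻¹ = s * (y * s⁻¹ * y⁻¹) := by rw [hu]; group
    rw [h1, mt_mul, mt_mul, mt_mul, ← hT.pi, hsν, hsi, map_sub, map_one, ← hν']
    have h2 : νi * ν' = 0 := by
      have h3 : pr P (σ i) * ν' = ν' := by rw [hν', ← hσ, ← map_mul, hpν]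
      rw [← hνp, ← h3, mul_assoc, ← mul_assoc (pr P i) (pr P (σ i)), hP.pr_mul_ne (Ne.symm hki), zero_mul, mul_zero]
    calc (1 + νi) * (1 - ν') = 1 + νi - ν' - νi * ν' := by noncomm_ring
      _ = _ := by rw [h2, sub_zero]
  have hmw : mt (iSU n F q) w = (1 + ν'' - ν') * (1 + νi - ν') := by
    rw [hw, mt_mul, mt_mul, mt_mul, ← hT.pi, hmu, hmui, map_sub, map_add, map_one, ← hν', ← hν'']
  have hmwp : mt (iSU n F q) w * pr P i = pr P i + νi + (ν'' * pr P i + ν'' * νi) := by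
    have h1 : (1 + νi - ν') * pr P i = pr P i + νi := by
      rw [sub_mul, add_mul, one_mul, hνp, hν'p, sub_zero]
    rw [hmw, mul_assoc, h1]
    calc (1 + ν'' - ν') * (pr P i + νi) = pr P i + νi + (ν'' * pr P i + ν'' * νi) - (ν' * pr P i + ν' * νi) := by
          noncomm_ring
      _ = _ := by rw [hν'p, hν'ν, add_zero, sub_zero]
  obtain ⟨κ, hκ0, hκ⟩ : ∃ κ : F, κ ≠ 0 ∧ mt (iSU n F q) w * pr P i = pr P i + κ • νi := by
    by_cases hkk : σ (σ i) = i
    · have hr2 : r = 2 := by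
        rcases hr.eq_two_or_odd' with h1 | h1
        · exact h1
        · exfalso
          obtain ⟨j, hj⟩ := h1
          have h2 : T (π y ^ r) (pr P i) = pr P i := by rw [hYr _ hy, map_one, RingAut.one_apply]
          rw [T_pow (π y) r hσ, hj] at h2
          have h3 : (σ ^ (2 * j + 1)) i = σ i := by
            have h4 : ∀ k : ℕ, (σ ^ (2 * k)) i = i := by
              intro k
              induction k with
              | zero => rfl
              | succ k ih =>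
                rw [mul_add, mul_one, pow_add, Equiv.Perm.mul_apply, pow_two, Equiv.Perm.mul_apply, hkk, ih]
            rw [pow_succ', Equiv.Perm.mul_apply, h4]
          rw [h3] at h2
          exact hki (hP.pr_inj hm h2)
      have h1 : ν'' = νi := by
        have h2 := hYr _ hy
        rw [hr2, pow_two] at h2
        rw [hν'', hν', ← T_mul, h2, map_one, RingAut.one_apply]
      refine ⟨2, by rw [hr2] at hrF; exact_mod_cast hrF, ?_⟩
      rw [hmwp, h1, hνp, hνν, add_zero, two_smul, add_assoc]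
    · refine ⟨1, one_ne_zero, ?_⟩
      have h1 : ν'' * pr P (σ (σ i)) = ν'' := by
        rw [hν'', hν', ← hσ, ← hσ, ← map_mul, ← map_mul, hνp]
      have h2 : ν'' * pr P i = 0 := by rw [← h1, mul_assoc, hP.pr_mul_ne hkk, mul_zero]
      have h3 : ν'' * νi = 0 := by rw [← hpν, ← mul_assoc, h2, zero_mul]
      rw [hmwp, h2, h3, add_zero, add_zero, one_smul]
  have hwY : π w ∈ Y := by
    have h1 := hTW.comm hsD hy
    have e1 : π w = π y * (π y * π s * (π y)⁻¹ * (π s)⁻¹) * (π y)⁻¹ * (π y * π s * (π y)⁻¹ * (π s)⁻¹)⁻¹ := by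
      rw [hw, hu]
      simp only [map_mul, map_inv]
    rw [e1]
    exact h1
  have hpow : ∀ j : ℕ, mt (iSU n F q) (w ^ j) * pr P i = pr P i + ((j : F) * κ) • νi := by
    intro j
    induction j with
    | zero => rw [pow_zero, mt_one, one_mul, Nat.cast_zero, zero_mul, zero_smul, add_zero]
    | succ j ih =>
      have h1 : pr P i * (pr P i + ((j : F) * κ) • νi) = pr P i + ((j : F) * κ) • νi := by
        rw [mul_add, hP.pr_mul_self, mul_smul_comm, hpν]
      rw [pow_succ', mt_mul, mul_assoc, ih, ← h1, ← mul_assoc, hκ, add_mul, mul_add, hP.pr_mul_self, mul_smul_comm, hpν,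
        smul_mul_assoc, mul_add, hνp, mul_smul_comm, hνν, smul_zero, add_zero, Nat.cast_succ, add_mul, one_mul, add_smul,
        add_assoc]
  obtain ⟨z, hz⟩ := (hM.ker (w ^ r)).1 (by rw [map_pow, hYr _ hwY])
  have h1 := hpow r
  rw [hz, smul_mul_assoc, one_mul] at h1
  have h2 := congrArg (fun x => νi * x) h1
  beta_reduce at h2
  rw [mul_smul_comm, hνp, mul_add, hνp, mul_smul_comm, hνν, smul_zero, add_zero] at h2
  have h3 : (z - 1) • νi = 0 := by rw [sub_smul, one_smul, h2, sub_self]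
  rw [smul_eq_zero, sub_eq_zero] at h3
  rw [h3.resolve_right hν0, one_smul, left_eq_add, smul_eq_zero] at h1
  rcases h1 with h1 | h1
  · exact (mul_ne_zero hrF hκ0) h1
  · exact hν0 h1

/-- diagonal elements -/
def Dg (P : Fin t → Matrix (Fin n) (Fin m) F) (c : Fin t → F) : Matrix (Fin n) (Fin n) F := ∑ i, c i • pr P i

theorem Dg_pr (hP : OF P) (c : Fin t → F) (i : Fin t) : Dg P c * pr P i = c i • pr P i := by
  rw [Dg, Finset.sum_mul, Finset.sum_eq_single i]
  · rw [smul_mul_assoc, hP.pr_mul_self]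
  · intro j _ hj
    rw [smul_mul_assoc, hP.pr_mul_ne hj, smul_zero]
  · intro h
    exact (h (Finset.mem_univ _)).elim

theorem Dg_ext (hP : OF P) {x : Matrix (Fin n) (Fin n) F} {c : Fin t → F} (h : ∀ i, x * pr P i = c i • pr P i) :
    x = Dg P c := by
  rw [← hP.eq_sum' x, Dg]
  exact Finset.sum_congr rfl fun i _ => h i

theorem Dg_mul (hP : OF P) (c d : Fin t → F) : Dg P c * Dg P d = Dg P (fun i => c i * d i) := by
  apply Dg_ext hP
  intro i
  rw [mul_assoc, Dg_pr hP, mul_smul_comm, Dg_pr hP, smul_smul, mul_comm]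

theorem Dg_pow (hP : OF P) (c : Fin t → F) (k : ℕ) : Dg P c ^ k = Dg P (fun i => c i ^ k) := by
  induction k with
  | zero =>
    rw [pow_zero]
    apply Dg_ext hP
    intro i
    rw [pow_zero, one_smul, one_mul]
  | succ k ih =>
    rw [pow_succ, ih, Dg_mul hP]
    congr 1
    funext i
    rw [pow_succ]

theorem T_Dg (hT : Lf π T) {y : ↥(Cfsg.SU n F q)} {σ : Equiv.Perm (Fin t)} (hσ : ∀ i, T (π y) (pr P i) = pr P (σ i))
    (c : Fin t → F) : T (π y) (Dg P c) = Dg P (fun i => c (σ.symm i)) := by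
  have hlin : ∀ (a : F) (x : Matrix (Fin n) (Fin n) F), T (π y) (a • x) = a • T (π y) x := by
    intro a x
    rw [hT.pi, hT.pi, mul_smul_comm, smul_mul_assoc]
  rw [Dg, Dg, map_sum]
  simp only [hlin, hσ]
  exact Fintype.sum_equiv σ _ _ fun i => by rw [Equiv.symm_apply_apply]

theorem mt_Dg_inv (hP : OF P) {s : ↥(Cfsg.SU n F q)} {c : Fin t → F} (h : mt (iSU n F q) s = Dg P c)
    (hc : ∀ i, c i ≠ 0) : mt (iSU n F q) s⁻¹ = Dg P (fun i => (c i)⁻¹) := by
  have h1 : mt (iSU n F q) s * Dg P (fun i => (c i)⁻¹) = 1 := by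
    rw [h, Dg_mul hP]
    symm
    apply Dg_ext hP
    intro i
    rw [mul_inv_cancel₀ (hc i), one_smul, one_mul]
  calc mt (iSU n F q) s⁻¹ = mt (iSU n F q) s⁻¹ * (mt (iSU n F q) s * Dg P (fun i => (c i)⁻¹)) := by rw [h1, mul_one]
    _ = _ := by rw [← mul_assoc, mt_inv_mul, one_mul]

theorem mt_pow (s : ↥(Cfsg.SU n F q)) (k : ℕ) : mt (iSU n F q) (s ^ k) = mt (iSU n F q) s ^ k := by
  induction k with
  | zero => rw [pow_zero, pow_zero, mt_one]
  | succ k ih => rw [pow_succ, pow_succ, mt_mul, ih]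

include hF in
/-- a generator of the group of elements of norm one -/
theorem exists_norm_gen : ∃ a : F, a * a ^ q = 1 ∧ ∀ k, a ^ k = 1 → q + 1 ∣ k := by
  have h2 := Cfsg.Agent.LieClassical.HermBasic.two_le hF
  obtain ⟨g, hg⟩ := IsCyclic.exists_generator (α := Fˣ)
  have hord : orderOf g = (q + 1) * (q - 1) := by
    rw [← Cfsg.Agent.LieClassical.HermBasic.card_units_eq hF]
    exact orderOf_eq_card_of_forall_mem_zpowers hg
  have h1 : g ^ ((q + 1) * (q - 1)) = 1 := by rw [← hord]; exact pow_orderOf_eq_one g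
  refine ⟨((g ^ (q - 1) : Fˣ) : F), ?_, fun k hk => ?_⟩
  · rw [← pow_succ', ← Units.val_pow_eq_pow_val, ← pow_mul, mul_comm, h1, Units.val_one]
  · have h3 : g ^ ((q - 1) * k) = 1 := by
      rw [pow_mul]
      apply Units.ext
      rw [Units.val_pow_eq_pow_val, hk, Units.val_one]
    have h4 := orderOf_dvd_of_pow_eq_one h3
    rw [hord, mul_comm (q - 1)] at h4
    exact Nat.dvd_of_mul_dvd_mul_right (by omega) h4

include hF hs in
/-- degree at most four -/
theorem moves_small (h : Fr π T D e) (hP : OF P) (he : ∀ i, e i = pr P i) (hM : Model N (iSU n F q) π) (hT : Lf π T)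
    (hm : 0 < m) (ht3 : 3 ≤ t) (ht4 : t ≤ 4) (hr : r.Prime) {Y : Subgroup G} (hYr : ∀ y ∈ Y, y ^ r = 1)
    (hYD : Y ≤ D) (hTW : TWp D Y) {y : ↥(Cfsg.SU n F q)} (hy : π y ∈ Y) :
    (∀ i, T (π y) (pr P i) = pr P i) ∨ q + 1 ≤ 36 := by
  obtain ⟨σ, hσ⟩ := h.perm_equiv (hYD hy)
  simp only [he] at hσ
  by_cases hσ1 : σ = 1
  · left
    intro i
    rw [hσ, hσ1]
    rfl
  right
  have hσr : σ ^ r = 1 := by
    ext i
    congr 1
    have h1 : T (π y ^ r) (pr P i) = pr P i := by rw [hYr _ hy, map_one, RingAut.one_apply]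
    rw [T_pow (π y) r hσ] at h1
    exact hP.pr_inj hm h1
  have hrf : Fact r.Prime := ⟨hr⟩
  have hord : orderOf σ = r := orderOf_eq_prime hσr hσ1
  have hdvd : r ∣ Nat.factorial 4 := by
    have h1 := orderOf_dvd_card (x := σ)
    rw [hord, Fintype.card_perm, Fintype.card_fin] at h1
    exact h1.trans (Nat.factorial_dvd_factorial ht4)
  have hr3 : r ≤ 3 := by
    have h24 : Nat.factorial 4 = 2 ^ 3 * 3 := by decide
    rw [h24] at hdvd
    rcases hr.dvd_mul.1 hdvd with h1 | h1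
    · exact (Nat.le_of_dvd (by norm_num) (hr.dvd_of_dvd_pow h1)).trans (by norm_num)
    · exact Nat.le_of_dvd (by norm_num) h1
  obtain ⟨a, ha, hagen⟩ := exists_norm_gen hF
  have ha0 : a ≠ 0 := by
    rintro rfl
    rw [zero_mul] at ha
    exact zero_ne_one ha
  -- a moved point
  obtain ⟨i0, hi0⟩ : ∃ i, σ i ≠ i := by
    by_contra hcon
    push Not at hcon
    exact hσ1 (Equiv.ext hcon)
  obtain ⟨l, hl0, hl1⟩ := exists_third ht3 i0 (σ i0)
  obtain ⟨s, hs1⟩ := exists_dg hF hs hP (Ne.symm hl0) ha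
  let c : Fin t → F := fun k => if k = i0 then a else if k = l then a⁻¹ else 1
  have hc0 : ∀ k, c k ≠ 0 := by
    intro k
    simp only [c]
    split_ifs
    · exact ha0
    · exact inv_ne_zero ha0
    · exact one_ne_zero
  have hsc : mt (iSU n F q) s = Dg P c := by
    rw [hs1]
    apply Dg_ext hP
    intro k
    rw [add_mul, add_mul, one_mul, smul_mul_assoc, smul_mul_assoc]
    simp only [c]
    by_cases hk0 : k = i0
    · rw [if_pos hk0, hk0, hP.pr_mul_self, hP.pr_mul_ne hl0, smul_zero, add_zero, sub_smul, one_smul]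
      abel
    · rw [if_neg hk0]
      by_cases hk1 : k = l
      · rw [if_pos hk1, hk1, hP.pr_mul_self, hP.pr_mul_ne (Ne.symm hl0), smul_zero, add_zero, sub_smul, one_smul]
        abel
      · rw [if_neg hk1, hP.pr_mul_ne (Ne.symm hk0), hP.pr_mul_ne (Ne.symm hk1), smul_zero, smul_zero, add_zero, add_zero,
          one_smul]
  have hsD : π s ∈ D := by
    apply h.mem_of_comm hT he
    intro k
    have h1 : (Dg P c)ᴴ = Dg P (fun i => Star.star (c i)) := by
      rw [Dg, Dg, Matrix.conjTranspose_sum]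
      refine Finset.sum_congr rfl fun i _ => ?_
      rw [Matrix.conjTranspose_smul, pr_star]
    have h2 := Dg_pr hP (fun i => Star.star (c i)) k
    rw [← h1] at h2
    have h3 := congrArg Matrix.conjTranspose h2
    rw [Matrix.conjTranspose_mul, Matrix.conjTranspose_conjTranspose, pr_star, Matrix.conjTranspose_smul, pr_star,
      star_star] at h3
    rw [hsc, Dg_pr hP, h3]
  -- the commutators
  set u := y * s * y⁻¹ * s⁻¹ with hu
  set w := y * u * y⁻¹ * u⁻¹ with hw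
  let cu : Fin t → F := fun k => c (σ.symm k) * (c k)⁻¹
  have hcu0 : ∀ k, cu k ≠ 0 := fun k => mul_ne_zero (hc0 _) (inv_ne_zero (hc0 _))
  let cw : Fin t → F := fun k => cu (σ.symm k) * (cu k)⁻¹
  have hmu : mt (iSU n F q) u = Dg P cu := by
    rw [hu, mt_mul, mt_mul, mt_mul, ← hT.pi, hsc, T_Dg hT hσ, mt_Dg_inv hP hsc hc0, Dg_mul hP]
  have hmw : mt (iSU n F q) w = Dg P cw := by
    rw [hw, mt_mul, mt_mul, mt_mul, ← hT.pi, hmu, T_Dg hT hσ, mt_Dg_inv hP hmu hcu0, Dg_mul hP]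
  have hwY : π w ∈ Y := by
    have h1 := hTW.comm hsD hy
    have e1 : π w = π y * (π y * π s * (π y)⁻¹ * (π s)⁻¹) * (π y)⁻¹ * (π y * π s * (π y)⁻¹ * (π s)⁻¹)⁻¹ := by
      rw [hw, hu]
      simp only [map_mul, map_inv]
    rw [e1]
    exact h1
  obtain ⟨z, hz⟩ := (hM.ker (w ^ r)).1 (by rw [map_pow, hYr _ hwY])
  have hz1 : ∀ k, cw k ^ r = z := by
    intro k
    have h1 := Dg_pr hP (fun i => cw i ^ r) k
    rw [← Dg_pow hP, ← hmw, ← mt_pow, hz, smul_mul_assoc, one_mul] at h1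
    exact (smul_pr_inj hP hm h1).symm
  have hzt : z ^ t = 1 := by
    have h1 : ∏ k, cw k ^ r = z ^ t := by
      rw [Finset.prod_congr rfl fun k _ => hz1 k, Finset.prod_const, Finset.card_univ, Fintype.card_fin]
    rw [← h1, Finset.prod_pow]
    have h2 : ∏ k, cw k = 1 := by
      simp only [cw]
      rw [Finset.prod_mul_distrib, Finset.prod_inv_distrib, Equiv.prod_comp σ.symm cu]
      exact mul_inv_cancel₀ (Finset.prod_ne_zero_iff.2 fun k _ => hcu0 k)
    rw [h2, one_pow]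
  -- the entry at `σ i0`
  have hj : cw (σ i0) = a⁻¹ * a⁻¹ ∨ cw (σ i0) = a⁻¹ * a⁻¹ * a⁻¹ := by
    have h1 : cu (σ i0) = a := by
      simp only [cu, c]
      rw [Equiv.symm_apply_apply, if_pos rfl, if_neg hi0, if_neg (Ne.symm hl1), inv_one, mul_one]
    have h2 : cu i0 = c (σ.symm i0) * a⁻¹ := by
      simp only [cu, c, if_true]
    have h3 : σ.symm i0 ≠ i0 := by
      intro h4
      apply hi0
      conv_lhs => rw [← h4]
      rw [Equiv.apply_symm_apply]
    have h4 : cw (σ i0) = cu i0 * (cu (σ i0))⁻¹ := by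
      simp only [cw]
      rw [Equiv.symm_apply_apply]
    rw [h4, h1, h2]
    simp only [c]
    rw [if_neg h3]
    split_ifs
    · right; rfl
    · left; rw [one_mul]
  have hle : q + 1 ≤ 3 * r * t := by
    have hfin : a ^ (2 * r * t) = 1 ∨ a ^ (3 * r * t) = 1 := by
      rcases hj with hj | hj
      · left
        have h1 := hz1 (σ i0)
        rw [hj] at h1
        have h2 : (a ^ (2 * r * t))⁻¹ = 1 := by
          rw [← hzt, ← h1, ← inv_pow]
          have : a⁻¹ * a⁻¹ = a⁻¹ ^ 2 := by rw [pow_two]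
          rw [this, ← pow_mul, ← pow_mul, mul_assoc]
        rwa [inv_eq_one] at h2
      · right
        have h1 := hz1 (σ i0)
        rw [hj] at h1
        have h2 : (a ^ (3 * r * t))⁻¹ = 1 := by
          rw [← hzt, ← h1, ← inv_pow]
          have : a⁻¹ * a⁻¹ * a⁻¹ = a⁻¹ ^ 3 := by ring
          rw [this, ← pow_mul, ← pow_mul, mul_assoc]
        rwa [inv_eq_one] at h2
    have hr0 := hr.pos
    rcases hfin with h1 | h1
    · have h2 := Nat.le_of_dvd (by positivity) (hagen _ h1)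
      nlinarith
    · exact Nat.le_of_dvd (by positivity) (hagen _ h1)
  calc q + 1 ≤ 3 * r * t := hle
    _ ≤ 3 * 3 * 4 := Nat.mul_le_mul (Nat.mul_le_mul_left 3 hr3) ht4
    _ = 36 := by norm_num

end

end Cfsg.Agent.H189.TW
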