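import Cfsg.Agent.H189.TW.Lift
import Cfsg.Agent.H734.OreT5

/-!
# S3694, T6: ranks of idempotents (helper189)

`Rk e m` : the idempotent `e` has rank `m`.
* `exists_rk`, `Rk.unique`, `Rk.add`, `Rk.map`;
* `Rk.on` : a self-adjoint idempotent is `P Pᴴ` with `Pᴴ P = 1`.
-/

set_option autoImplicit false

namespace Cfsg.Agent.H189.TW

open Matrix Subgroup Cfsg Cfsg.Agent.H607.TW

universe u

section

variable {F : Type} [Field F] {n m k : ℕ}

/-- the idempotent `e` has rank `m` -/
def Rk (e : Matrix (Fin n) (Fin n) F) (m : ℕ) : Prop :=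
  ∃ (P : Matrix (Fin n) (Fin m) F) (Q : Matrix (Fin m) (Fin n) F), P * Q = e ∧ Q * P = 1

theorem eq_of_inv {P : Matrix (Fin m) (Fin k) F} {Q : Matrix (Fin k) (Fin m) F} (h1 : P * Q = 1) (h2 : Q * P = 1) :
    m = k := by
  have h3 : m ≤ k := by
    have h5 : Function.Injective (Matrix.mulVecLin Q) := by
      intro x y hxy
      simp only [Matrix.mulVecLin_apply] at hxy
      have h6 := congrArg (fun z => P *ᵥ z) hxy
      simp only [Matrix.mulVec_mulVec, h1, Matrix.one_mulVec] at h6
      exact h6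
    have h6 := LinearMap.finrank_le_finrank_of_injective h5
    simpa using h6
  have h4 : k ≤ m := by
    have h5 : Function.Injective (Matrix.mulVecLin P) := by
      intro x y hxy
      simp only [Matrix.mulVecLin_apply] at hxy
      have h6 := congrArg (fun z => Q *ᵥ z) hxy
      simp only [Matrix.mulVec_mulVec, h2, Matrix.one_mulVec] at h6
      exact h6
    have h6 := LinearMap.finrank_le_finrank_of_injective h5
    simpa using h6
  exact le_antisymm h3 h4

theorem Rk.unique {e : Matrix (Fin n) (Fin n) F} (h1 : Rk e m) (h2 : Rk e k) : m = k := by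
  obtain ⟨P, Q, h3, h4⟩ := h1
  obtain ⟨P', Q', h5, h6⟩ := h2
  have e1 : (Q * P') * (Q' * P) = 1 := by
    calc _ = Q * (P' * Q') * P := by simp only [Matrix.mul_assoc]
      _ = (Q * P) * (Q * P) := by rw [h5, ← h3]; simp only [Matrix.mul_assoc]
      _ = 1 := by rw [h4, Matrix.one_mul]
  have e2 : (Q' * P) * (Q * P') = 1 := by
    calc _ = Q' * (P * Q) * P' := by simp only [Matrix.mul_assoc]
      _ = (Q' * P') * (Q' * P') := by rw [h3, ← h5]; simp only [Matrix.mul_assoc]
      _ = 1 := by rw [h6, Matrix.one_mul]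
  exact eq_of_inv e1 e2

theorem exists_rk {e : Matrix (Fin n) (Fin n) F} (he : e * e = e) : ∃ m, Rk e m := by
  let V := LinearMap.range (Matrix.mulVecLin e)
  let b := Module.finBasis F V
  let P : Matrix (Fin n) (Fin (Module.finrank F V)) F := fun a i => (b i : Fin n → F) a
  let f : (Fin n → F) →ₗ[F] V := (Matrix.mulVecLin e).rangeRestrict
  let Q : Matrix (Fin (Module.finrank F V)) (Fin n) F := fun i a => b.repr (f (Pi.single a 1)) i
  have hP : ∀ c, P *ᵥ c = ∑ i, c i • (b i : Fin n → F) := by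
    intro c
    ext a
    rw [Matrix.mulVec, dotProduct, Finset.sum_apply]
    refine Finset.sum_congr rfl fun i _ => ?_
    rw [Pi.smul_apply, smul_eq_mul, mul_comm]
  have hQ : ∀ v, Q *ᵥ v = b.repr (f v) := by
    intro v
    ext i
    rw [Matrix.mulVec, dotProduct]
    have h1 : v = ∑ a, v a • (Pi.single a (1 : F) : Fin n → F) := by
      ext c
      rw [Finset.sum_apply, Finset.sum_eq_single c]
      · simp
      · intro d _ hd
        simp [hd.symm]
      · simp
    conv_rhs => rw [h1]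
    rw [map_sum, map_sum, Finsupp.finsetSum_apply]
    refine Finset.sum_congr rfl fun a _ => ?_
    rw [map_smul, map_smul, Finsupp.smul_apply, smul_eq_mul, mul_comm]
  have hf : ∀ v, ((f v : V) : Fin n → F) = e *ᵥ v := fun v => rfl
  refine ⟨Module.finrank F V, P, Q, ?_, ?_⟩
  · apply Matrix.ext_of_mulVec_single
    intro a
    rw [← Matrix.mulVec_mulVec, hQ, hP]
    have h1 := b.sum_repr (f (Pi.single a 1))
    have h2 := congrArg (fun z : V => (z : Fin n → F)) h1
    simp only [AddSubmonoidClass.coe_finsetSum, SetLike.val_smul, hf] at h2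
    exact h2
  · apply Matrix.ext_of_mulVec_single
    intro i
    rw [← Matrix.mulVec_mulVec, hQ, Matrix.one_mulVec]
    have h1 : P *ᵥ Pi.single i 1 = (b i : Fin n → F) := by
      rw [hP, Finset.sum_eq_single i]
      · simp
      · intro j _ hj
        rw [Pi.single_apply, if_neg hj, zero_smul]
      · simp
    rw [h1]
    have h2 : f (b i : Fin n → F) = b i := by
      apply Subtype.ext
      rw [hf]
      obtain ⟨w, hw⟩ := (b i).2
      rw [← hw, Matrix.mulVecLin_apply, Matrix.mulVec_mulVec, he]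
    rw [h2, b.repr_self]
    ext j
    rw [Finsupp.single_apply, Pi.single_apply]
    simp only [eq_comm]

theorem Rk.add {e : Matrix (Fin n) (Fin n) F} (h1 : Rk e m) (h2 : Rk (1 - e) k) : n = m + k := by
  obtain ⟨P, Q, h3, h4⟩ := h1
  obtain ⟨P', Q', h5, h6⟩ := h2
  have hQe : Q * (1 - e) = 0 := by
    rw [Matrix.mul_sub, Matrix.mul_one, ← h3, ← Matrix.mul_assoc, h4, Matrix.one_mul, sub_self]
  have heP : (1 - e) * P' = P' := by
    rw [← h5, Matrix.mul_assoc, h6, Matrix.mul_one]
  have hQP' : Q * P' = 0 := by rw [← heP, ← Matrix.mul_assoc, hQe, Matrix.zero_mul]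
  have hQ'e : Q' * (1 - e) = Q' := by rw [← h5, ← Matrix.mul_assoc, h6, Matrix.one_mul]
  have heP0 : (1 - e) * P = 0 := by
    rw [Matrix.sub_mul, Matrix.one_mul, ← h3, Matrix.mul_assoc, h4, Matrix.mul_one, sub_self]
  have hQ'P : Q' * P = 0 := by rw [← hQ'e, Matrix.mul_assoc, heP0, Matrix.mul_zero]
  let U : Matrix (Fin n) (Fin m ⊕ Fin k) F := Matrix.fromCols P P'
  let W : Matrix (Fin m ⊕ Fin k) (Fin n) F := Matrix.fromRows Q Q'
  have e1 : U * W = 1 := by
    rw [Matrix.fromCols_mul_fromRows, h3, h5]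
    abel
  have e2 : W * U = 1 := by
    rw [Matrix.fromRows_mul_fromCols, h4, h6, hQP', hQ'P, Matrix.fromBlocks_one]
  have e3 : n ≤ m + k := by
    have h5 : Function.Injective (Matrix.mulVecLin W) := by
      intro x y hxy
      simp only [Matrix.mulVecLin_apply] at hxy
      have h6 := congrArg (fun z => U *ᵥ z) hxy
      simp only [Matrix.mulVec_mulVec, e1, Matrix.one_mulVec] at h6
      exact h6
    have h6 := LinearMap.finrank_le_finrank_of_injective h5
    simpa using h6
  have e4 : m + k ≤ n := by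
    have h5 : Function.Injective (Matrix.mulVecLin U) := by
      intro x y hxy
      simp only [Matrix.mulVecLin_apply] at hxy
      have h6 := congrArg (fun z => W *ᵥ z) hxy
      simp only [Matrix.mulVec_mulVec, e2, Matrix.one_mulVec] at h6
      exact h6
    have h6 := LinearMap.finrank_le_finrank_of_injective h5
    simpa using h6
  exact le_antisymm e3 e4

theorem Rk.pos {e : Matrix (Fin n) (Fin n) F} (h1 : Rk e m) (h0 : e ≠ 0) : 0 < m := by
  rcases Nat.eq_zero_or_pos m with rfl | h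
  · exfalso
    obtain ⟨P, Q, h3, h4⟩ := h1
    apply h0
    rw [← h3]
    ext a b
    rw [Matrix.mul_apply, Finset.univ_eq_empty, Finset.sum_empty, Matrix.zero_apply]
  · exact h

end

section

variable {F : Type} [Field F] [Fintype F] [StarRing F] {q n m k : ℕ} (hF : Fintype.card F = q ^ 2)
  (hs : ∀ x : F, star x = x ^ q)

include hF hs in
/-- a self-adjoint idempotent has an orthonormal basis -/
theorem exists_on {e : Matrix (Fin n) (Fin n) F} (he : e * e = e) (hes : eᴴ = e) :
    ∃ (m : ℕ) (P : Matrix (Fin n) (Fin m) F), Pᴴ * P = 1 ∧ P * Pᴴ = e := by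
  let σ : F →+* F := starRingEnd F
  have hσ : ∀ a, σ a = a ^ q := fun a => hs a
  have hHS := Cfsg.Agent.H734.OreT5.mHS hF hσ (1 : Equiv.Perm (Fin n)) (fun p => rfl)
  set B := Cfsg.Agent.H734.OreT5.mB σ (1 : Equiv.Perm (Fin n)) with hB
  have hBd : ∀ u v : Fin n → F, B u v = u ⬝ᵥ star v := fun u v => rfl
  let W := LinearMap.range (Matrix.mulVecLin e)
  have hWe : ∀ u ∈ W, e *ᵥ u = u := by
    rintro _ ⟨w, rfl⟩
    rw [Matrix.mulVecLin_apply, Matrix.mulVec_mulVec, he]
  have hadj : ∀ u v : Fin n → F, B (e *ᵥ u) v = B u (e *ᵥ v) := by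
    intro u v
    rw [hBd, hBd, Matrix.star_mulVec, hes, dotProduct_comm (e *ᵥ u), Matrix.dotProduct_mulVec, dotProduct_comm u]
  have hNd : Cfsg.Agent.H951.Nd B W := by
    intro u hu hu0
    by_contra hcon
    push Not at hcon
    apply hu0
    apply hHS.nd
    intro v
    rw [← hWe u hu, hadj]
    exact hcon _ ⟨v, rfl⟩
  obtain ⟨v, hvW, hv⟩ := Cfsg.Agent.H734.OreT5.exists_family hHS (Module.finrank F W) W hNd rfl
  let P : Matrix (Fin n) (Fin (Module.finrank F W)) F := fun a i => v i a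
  have hPP : Pᴴ * P = 1 := by
    ext i j
    have h1 : (Pᴴ * P) i j = B (v j) (v i) := by
      rw [hBd, Matrix.mul_apply, dotProduct]
      refine Finset.sum_congr rfl fun a _ => ?_
      rw [Matrix.conjTranspose_apply, mul_comm]
      rfl
    rw [h1, hv, Matrix.one_apply]
    simp only [eq_comm]
  have hinj : Function.Injective (Matrix.mulVecLin P) := by
    intro x y hxy
    simp only [Matrix.mulVecLin_apply] at hxy
    have h6 := congrArg (fun z => Pᴴ *ᵥ z) hxy
    simp only [Matrix.mulVec_mulVec, hPP, Matrix.one_mulVec] at h6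
    exact h6
  have hrange : LinearMap.range (Matrix.mulVecLin P) = W := by
    apply Submodule.eq_of_le_of_finrank_eq
    · rintro _ ⟨c, rfl⟩
      have h1 : Matrix.mulVecLin P c = ∑ i, c i • v i := by
        ext a
        rw [Matrix.mulVecLin_apply, Matrix.mulVec, dotProduct, Finset.sum_apply]
        refine Finset.sum_congr rfl fun i _ => ?_
        rw [Pi.smul_apply, smul_eq_mul, mul_comm]
      rw [h1]
      exact Submodule.sum_mem _ fun i _ => Submodule.smul_mem _ _ (hvW i)
    · rw [LinearMap.finrank_range_of_inj hinj]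
      simp
  refine ⟨_, P, hPP, ?_⟩
  have hfe : P * Pᴴ * e = e := by
    apply Matrix.ext_of_mulVec_single
    intro a
    have h1 : e *ᵥ Pi.single a 1 ∈ LinearMap.range (Matrix.mulVecLin P) := by
      rw [hrange]
      exact ⟨_, rfl⟩
    obtain ⟨c, hc⟩ := h1
    rw [Matrix.mulVecLin_apply] at hc
    rw [← Matrix.mulVec_mulVec, ← hc, Matrix.mulVec_mulVec, Matrix.mul_assoc, hPP, Matrix.mul_one]
  have hef : e * (P * Pᴴ) = P * Pᴴ := by
    rw [← Matrix.mul_assoc]
    congr 1
    apply Matrix.ext_of_mulVec_single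
    intro i
    rw [← Matrix.mulVec_mulVec]
    apply hWe
    exact (le_of_eq hrange) ⟨_, rfl⟩
  have h2 := congrArg Matrix.conjTranspose hfe
  rw [Matrix.conjTranspose_mul, Matrix.conjTranspose_mul, Matrix.conjTranspose_conjTranspose, hes, hef] at h2
  exact h2

include hF hs in
theorem Rk.on {e : Matrix (Fin n) (Fin n) F} (he : e * e = e) (hes : eᴴ = e) (h : Rk e m) :
    ∃ P : Matrix (Fin n) (Fin m) F, Pᴴ * P = 1 ∧ P * Pᴴ = e := by
  obtain ⟨k, P, h1, h2⟩ := exists_on hF hs he hes
  have h3 : Rk e k := ⟨P, Pᴴ, h2, h1⟩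
  obtain rfl := h.unique h3
  exact ⟨P, h1, h2⟩

omit [Fintype F] in
/-- comparable self-adjoint idempotents of the same rank are equal -/
theorem eq_of_le {P P' : Matrix (Fin n) (Fin m) F} (h' : P'ᴴ * P' = 1)
    (hle : (P' * P'ᴴ) * (P * Pᴴ) = P' * P'ᴴ) : P * Pᴴ = P' * P'ᴴ := by
  have h1 : P'ᴴ * P * (Pᴴ * P') = 1 := by
    calc _ = (P'ᴴ * P') * P'ᴴ * (P * Pᴴ) * P' := by rw [h', Matrix.one_mul]; simp only [Matrix.mul_assoc]
      _ = P'ᴴ * ((P' * P'ᴴ) * (P * Pᴴ)) * P' := by simp only [Matrix.mul_assoc]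
      _ = (P'ᴴ * P') * (P'ᴴ * P') := by rw [hle]; simp only [Matrix.mul_assoc]
      _ = 1 := by rw [h', Matrix.one_mul]
  have h2 : (Pᴴ * P') * (P'ᴴ * P) = 1 := mul_eq_one_comm.1 h1
  have h3 : (P * Pᴴ) * ((P' * P'ᴴ) * (P * Pᴴ)) = P * Pᴴ := by
    calc _ = P * ((Pᴴ * P') * (P'ᴴ * P)) * Pᴴ := by simp only [Matrix.mul_assoc]
      _ = _ := by rw [h2, Matrix.mul_one]
  rw [hle] at h3
  have h4 := congrArg Matrix.conjTranspose hle
  simp only [Matrix.conjTranspose_mul, Matrix.conjTranspose_conjTranspose] at h4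
  rw [← h3]
  simpa only [Matrix.mul_assoc] using h4

end

section

variable {G : Type u} [Group G] {F : Type} [Field F] [StarRing F] {n m q : ℕ} {π : ↥(Cfsg.SU n F q) →* G}
  {T : G →* RingAut (Matrix (Fin n) (Fin n) F)}

theorem Rk.map (hT : Lf π T) (g : G) {e : Matrix (Fin n) (Fin n) F} (h : Rk e m) : Rk (T g e) m := by
  obtain ⟨P, Q, h1, h2⟩ := h
  obtain ⟨B, σ, hB⟩ := hT.semi g
  have e0 : ∀ {a b c : ℕ} (x : Matrix (Fin a) (Fin b) F) (y : Matrix (Fin b) (Fin c) F),
      (x * y).map σ = x.map σ * y.map σ := fun x y => Matrix.map_mul (L := x) (M := y) (f := (σ : F →+* F))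
  have e1 := Cfsg.Agent.H296.TW.GL_inv_mul B
  refine ⟨(B : Matrix (Fin n) (Fin n) F) * P.map σ, Q.map σ * ((B⁻¹ : Matrix.GeneralLinearGroup (Fin n) F) : Matrix (Fin n) (Fin n) F), ?_, ?_⟩
  · rw [hB, ← h1, e0]
    simp only [Matrix.mul_assoc]
  · calc _ = Q.map σ * (((B⁻¹ : Matrix.GeneralLinearGroup (Fin n) F) : Matrix (Fin n) (Fin n) F) *
          (B : Matrix (Fin n) (Fin n) F)) * P.map σ := by simp only [Matrix.mul_assoc]
      _ = 1 := by
        rw [e1, Matrix.mul_one, ← e0, h2]
        exact Matrix.map_one σ (map_zero _) (map_one _)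

end

end Cfsg.Agent.H189.TW
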