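import Cfsg.Agent.H296.TW.ModSU
import Cfsg.Agent.H748.TW.SemiSL
import Cfsg.Agent.H935.ExtNorm

/-!
# S3694, T6: the matrix ring with involution (helper189)

`F` is a field with `q²` elements, `star x = x ^ q`; `xᴴ` is the adjoint.
* `exists_mt` : unitary matrices of determinant one come from `SU_n(q)`;
* `blk P α` : the matrix acting as `α` on the subspace with the orthonormal basis `P`;
* `fix_of_norm`, `fix_of_many` : automorphisms of `F` fixing the elements of norm one.
-/

set_option autoImplicit false

namespace Cfsg.Agent.H189.TW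

open Matrix Subgroup Cfsg Cfsg.Agent.H607.TW
open Cfsg.Agent.LieClassical.HermBasic (conj conj_apply pow_q_pow_q exists_norm_eq card_norm_eq_one q_pos)
open Cfsg.Agent.H296.TW (st)

universe u

/-- The involution of the field with `q²` elements. -/
@[reducible] def starF {F : Type} [Field F] [Fintype F] {q : ℕ} (hF : Fintype.card F = q ^ 2) : StarRing F where
  star x := x ^ q
  star_involutive x := pow_q_pow_q hF x
  star_mul x y := by rw [mul_pow, mul_comm]
  star_add x y := Cfsg.Agent.LieClassical.HermBasic.add_pow_q hF x y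

section Field

variable {F : Type} [Field F] [Fintype F] {q : ℕ} (hF : Fintype.card F = q ^ 2)

include hF in
/-- a ring endomorphism of `F` fixing more than `q` elements is the identity -/
theorem fix_of_many (σ : F →+* F) (K : Finset F) (hK : q < K.card) (h : ∀ a ∈ K, σ a = a) (x : F) : σ x = x := by
  let R : Subring F :=
    { carrier := {a | σ a = a}
      mul_mem' := by
        intro a b ha hb
        change σ (a * b) = a * b
        rw [map_mul]
        exact congrArg₂ _ ha hb
      one_mem' := map_one σ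
      add_mem' := by
        intro a b ha hb
        change σ (a + b) = a + b
        rw [map_add]
        exact congrArg₂ _ ha hb
      zero_mem' := map_zero σ
      neg_mem' := by
        intro a ha
        change σ (-a) = -a
        rw [map_neg]
        exact congrArg _ ha }
  by_cases hR : R = ⊤
  · have : x ∈ R := hR ▸ Subring.mem_top x
    exact this
  · exfalso
    have h1 := Cfsg.Agent.H935.card_subring_sq R hR
    rw [Nat.card_eq_fintype_card (α := F), hF] at h1
    have h2 : K.card ≤ Nat.card R := by
      have h4 : Nat.card K ≤ Nat.card R :=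
        Nat.card_le_card_of_injective (fun a : K => (⟨a.1, h a.1 a.2⟩ : R)) (by
          intro a b hab
          exact Subtype.ext (congrArg (fun z : R => (z : F)) hab))
      rwa [Nat.card_eq_fintype_card, Fintype.card_coe] at h4
    have h3 : K.card * K.card ≤ q ^ 2 := (Nat.mul_le_mul h2 h2).trans h1
    nlinarith

/-- the elements of norm one -/
noncomputable def nrm (F : Type) [Field F] [Fintype F] (q : ℕ) : Finset F := by
  classical
  exact Finset.univ.filter fun a => a * a ^ q = 1

theorem mem_nrm {a : F} : a ∈ nrm F q ↔ a * a ^ q = 1 := by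
  classical
  simp [nrm]

include hF in
theorem card_nrm : (nrm F q).card = q + 1 := by
  classical
  rw [← card_norm_eq_one hF, Nat.card_eq_fintype_card, Fintype.card_subtype]
  unfold nrm
  congr

include hF in
theorem fix_of_norm (σ : F →+* F) (h : ∀ a : F, a * a ^ q = 1 → σ a = a) (x : F) : σ x = x :=
  fix_of_many hF σ (nrm F q) (by rw [card_nrm hF]; omega) (fun a ha => h a (mem_nrm.1 ha)) x

end Field

section Basic

variable {F : Type} [Field F] [Fintype F] [StarRing F] {q n m k : ℕ} (hF : Fintype.card F = q ^ 2)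
  (hs : ∀ x : F, star x = x ^ q)

include hs in
theorem st_eq (x : Matrix (Fin n) (Fin n) F) : st hF x = xᴴ := by
  ext i j
  rw [st, Matrix.conjTranspose_apply, hs]
  rfl

include hF hs in
theorem exists_mt {X : Matrix (Fin n) (Fin n) F} (h : Xᴴ * X = 1) (hd : X.det = 1) :
    ∃ s : ↥(Cfsg.SU n F q), mt (iSU n F q) s = X := by
  have h1 : st hF X * X = 1 := by rw [st_eq hF hs, h]
  have h2 := (Cfsg.Agent.H296.TW.preserves_iff_st hF X).2 h1
  exact ⟨⟨⟨X, hd⟩, h2⟩, rfl⟩

include hF hs in
theorem mt_star (s : ↥(Cfsg.SU n F q)) : (mt (iSU n F q) s)ᴴ = mt (iSU n F q) s⁻¹ := by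
  rw [← st_eq hF hs, Cfsg.Agent.H296.TW.st_mt_eq hF]

omit [Fintype F] [StarRing F] in
theorem mt_det (s : ↥(Cfsg.SU n F q)) : (mt (iSU n F q) s).det = 1 :=
  (s : Matrix.SpecialLinearGroup (Fin n) F).2

/-- the matrix acting as `α` on the span of the orthonormal columns of `P`, trivial on the orthogonal complement -/
def blk (P : Matrix (Fin n) (Fin m) F) (α : Matrix (Fin m) (Fin m) F) : Matrix (Fin n) (Fin n) F :=
  1 + P * (α - 1) * Pᴴ

omit [Fintype F] in
theorem blk_def (P : Matrix (Fin n) (Fin m) F) (α : Matrix (Fin m) (Fin m) F) :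
    blk P α = 1 + P * (α - 1) * Pᴴ := rfl

omit [Fintype F] in
theorem blk_one (P : Matrix (Fin n) (Fin m) F) : blk P 1 = 1 := by
  rw [blk_def, sub_self, Matrix.mul_zero, Matrix.zero_mul, add_zero]

omit [Fintype F] in
theorem blk_mul {P : Matrix (Fin n) (Fin m) F} (hP : Pᴴ * P = 1) (α β : Matrix (Fin m) (Fin m) F) :
    blk P α * blk P β = blk P (α * β) := by
  simp only [blk_def]
  have h : P * (α - 1) * Pᴴ * (P * (β - 1) * Pᴴ) = P * ((α - 1) * (β - 1)) * Pᴴ := by
    calc _ = P * (α - 1) * (Pᴴ * P) * (β - 1) * Pᴴ := by simp only [Matrix.mul_assoc]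
      _ = _ := by rw [hP, Matrix.mul_one]; simp only [Matrix.mul_assoc]
  rw [mul_add, add_mul, one_mul, add_mul, mul_one, one_mul, h]
  have h2 : α * β - 1 = (α - 1) + (β - 1) + (α - 1) * (β - 1) := by noncomm_ring
  rw [h2, Matrix.mul_add, Matrix.mul_add, Matrix.add_mul, Matrix.add_mul]
  abel

omit [Fintype F] in
theorem blk_star (P : Matrix (Fin n) (Fin m) F) (α : Matrix (Fin m) (Fin m) F) : (blk P α)ᴴ = blk P αᴴ := by
  simp only [blk_def, Matrix.conjTranspose_add, Matrix.conjTranspose_one, Matrix.conjTranspose_mul,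
    Matrix.conjTranspose_conjTranspose, Matrix.conjTranspose_sub, Matrix.mul_assoc]

omit [Fintype F] in
theorem blk_unit {P : Matrix (Fin n) (Fin m) F} (hP : Pᴴ * P = 1) {α : Matrix (Fin m) (Fin m) F} (h : αᴴ * α = 1) :
    (blk P α)ᴴ * blk P α = 1 := by
  rw [blk_star, blk_mul hP, h, blk_one]

omit [Fintype F] in
theorem blk_det {P : Matrix (Fin n) (Fin m) F} (hP : Pᴴ * P = 1) (α : Matrix (Fin m) (Fin m) F) :
    (blk P α).det = α.det := by
  rw [blk_def, Matrix.mul_assoc, Matrix.det_one_add_mul_comm, Matrix.mul_assoc, hP, Matrix.mul_one]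
  congr 1
  abel

end Basic

end Cfsg.Agent.H189.TW
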