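import Cfsg.Agent.H189.TW.FrameSU
import Cfsg.Agent.H989.TW.Comp

/-!
# S3694, node T6 (helper189)

`frame_su` : the imprimitive type, unitary case.
-/

set_option autoImplicit false

namespace Cfsg.Agent.H189.TW

open Subgroup Cfsg Cfsg.Agent.H607.TW

universe u

variable {G : Type u} [Group G] [Finite G] {N A C A₁ C₁ A₂ C₂ : Subgroup G} {r d : ℕ}
  {F : Type} [Field F] [Fintype F] {n : ℕ}

theorem frame_su {q : ℕ} (hF : Fintype.card F = q ^ 2) {π : ↥(Cfsg.SU n F q) →* G} (h : Sit N A C A₁ C₁ A₂ C₂ r d)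
    (hr : ¬ r ∣ Fintype.card F) (hn : 3 ≤ n) (hM : Model N (iSU n F q) π) {t : ℕ} {e : Fin t → Matrix (Fin n) (Fin n) F}
    (hA : Frame (iSU n F q) π A e) : Nat.card A ≤ M d := by
  refine frame_su_of hF h hr hn hM (fun A' hL E hE hne w φ hφ h1 h2 => ?_) hA
  rcases Cfsg.Agent.H989.TW.comp_su hF hn hL hM E hE hne F w φ hφ h1 h2 with h3 | ⟨h3, -, h4⟩
  · exact Or.inl h3
  · exact Or.inr ⟨h3, h4⟩

end Cfsg.Agent.H189.TW
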