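import Cfsg.Agent.H189.TW.Rank

/-!
# S3694, T6: blocks of dimension two over the field with four elements (helper189)

`two_two_false` : impossible.
-/

set_option autoImplicit false
set_option linter.unusedSectionVars false

namespace Cfsg.Agent.H189.TW

open Matrix Subgroup Cfsg Cfsg.Agent.H607.TW
open Cfsg.Agent.H748.TW (mt_mul mt_one mt_inj mt_mul_inv mt_inv_mul HE HE_le mem_HE finite_S le_or_eq le_normalizer_of
  map_le_N)

universe u

section

variable {G : Type u} [Group G] {F : Type} [Field F] [StarRing F] {q n : ℕ} {π : ↥(Cfsg.SU n F q) →* G}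
  {T : G →* RingAut (Matrix (Fin n) (Fin n) F)} {N A : Subgroup G}

/-- the stabilizer of a set of matrices -/
def stabX (π : ↥(Cfsg.SU n F q) →* G) (T : G →* RingAut (Matrix (Fin n) (Fin n) F))
    (X : Set (Matrix (Fin n) (Fin n) F)) : Subgroup ↥(Cfsg.SU n F q) where
  carrier := {s | ∀ x, x ∈ X ↔ T (π s) x ∈ X}
  mul_mem' := by
    intro a b ha hb x
    rw [map_mul, T_mul, ← ha, ← hb]
  one_mem' := by
    intro x
    rw [map_one, map_one, RingAut.one_apply]
  inv_mem' := by
    intro a ha x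
    rw [map_inv, ha (T (π a)⁻¹ x), T_inv']

theorem stabX_norm (hT : Lf π T) {X : Set (Matrix (Fin n) (Fin n) F)} (h1 : ∀ a ∈ A, ∀ x ∈ X, T a x ∈ X) :
    A ≤ normalizer (((stabX π T X).map π : Subgroup G) : Set G) := by
  apply le_normalizer_of
  rintro a ha _ ⟨k, hk, rfl⟩
  obtain ⟨k', h6, h7⟩ := hT.conj a k
  refine ⟨k', ?_, h7⟩
  intro x
  have h2 : x ∈ X ↔ T a⁻¹ x ∈ X := by
    refine ⟨fun hx => h1 _ (inv_mem ha) x hx, fun hx => ?_⟩
    have := h1 _ ha _ hx
    rwa [T_inv'] at this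
  have h3 : T (π k) (T a⁻¹ x) ∈ X ↔ T a (T (π k) (T a⁻¹ x)) ∈ X := by
    refine ⟨fun hx => h1 _ ha _ hx, fun hx => ?_⟩
    have := h1 _ (inv_mem ha) _ hx
    rwa [T_inv] at this
  rw [h7, T_mul, T_mul, h2, ← h3]
  exact hk _

/-- `stabX` lies over `A` or is everything -/
theorem stabX_or {r : ℕ} (hL : Loc N A r) (hM : Model N (iSU n F q) π) (hT : Lf π T)
    {X : Set (Matrix (Fin n) (Fin n) F)} (h1 : ∀ a ∈ A, ∀ x ∈ X, T a x ∈ X) :
    (∀ s ∈ stabX π T X, π s ∈ A) ∨ ∀ s : ↥(Cfsg.SU n F q), ∀ x ∈ X, T (π s) x ∈ X := by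
  rcases le_or_eq hL (map_le_N hM _) (stabX_norm hT h1) with h6 | h6
  · left
    intro s hs
    exact h6 ⟨s, hs, rfl⟩
  · right
    intro s x hx
    have h8 : π s ∈ (stabX π T X).map π := by
      rw [h6, ← hM.range]
      exact ⟨s, rfl⟩
    obtain ⟨k, hk, hks⟩ := h8
    rw [← hks]
    exact (hk x).1 hx

end

section

variable {G : Type u} [Group G] {F : Type} [Field F] [Fintype F] [StarRing F] {n t : ℕ} (hF : Fintype.card F = 2 ^ 2)
  (hs : ∀ x : F, Star.star x = x ^ 2) {π : ↥(Cfsg.SU n F 2) →* G}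
  {T : G →* RingAut (Matrix (Fin n) (Fin n) F)} {N A : Subgroup G} {r : ℕ}
  {P : Fin t → Matrix (Fin n) (Fin 2) F}

include hF in
theorem two_zero : (2 : F) = 0 := by
  have h1 : ((Fintype.card F : ℕ) : F) = 0 := Nat.cast_card_eq_zero F
  rw [hF] at h1
  have h2 : (2 : F) * 2 = 0 := by
    rw [← h1]
    norm_num
  exact (mul_self_eq_zero.1 h2)

/-- the vectors -/
def vv (P : Fin t → Matrix (Fin n) (Fin 2) F) (x : Fin t × Fin 2) : Matrix (Fin n) (Fin 1) F := P x.1 * Pe 2 F x.2

theorem vv_self (h : OF P) (x : Fin t × Fin 2) : (vv P x)ᴴ * vv P x = 1 := by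
  rw [vv, Matrix.conjTranspose_mul]
  calc _ = (Pe 2 F x.2)ᴴ * ((P x.1)ᴴ * P x.1) * Pe 2 F x.2 := by simp only [Matrix.mul_assoc]
    _ = 1 := by rw [h.self, Matrix.mul_one, Pe_OF.self]

theorem vv_orth (h : OF P) {x y : Fin t × Fin 2} (hxy : x ≠ y) : (vv P x)ᴴ * vv P y = 0 := by
  rw [vv, vv, Matrix.conjTranspose_mul]
  have e : (Pe 2 F x.2)ᴴ * (P x.1)ᴴ * (P y.1 * Pe 2 F y.2) = (Pe 2 F x.2)ᴴ * ((P x.1)ᴴ * P y.1) * Pe 2 F y.2 := by
    simp only [Matrix.mul_assoc]
  rw [e]
  by_cases h1 : x.1 = y.1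
  · have h2 : x.2 ≠ y.2 := fun h2 => hxy (Prod.ext h1 h2)
    rw [h1, h.self, Matrix.mul_one, Pe_OF.orth _ _ h2]
  · rw [h.orth _ _ h1, Matrix.mul_zero, Matrix.zero_mul]

/-- the rank one projections -/
def gg (P : Fin t → Matrix (Fin n) (Fin 2) F) (x : Fin t × Fin 2) : Matrix (Fin n) (Fin n) F := vv P x * (vv P x)ᴴ

theorem gg_eq (x : Fin t × Fin 2) : gg P x = P x.1 * pr (Pe 2 F) x.2 * (P x.1)ᴴ := by
  rw [gg, vv, Matrix.conjTranspose_mul, pr_def]
  simp only [Matrix.mul_assoc]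

theorem gg_sum (i : Fin t) : gg P (i, 0) + gg P (i, 1) = pr P i := by
  rw [gg_eq, gg_eq, ← Matrix.add_mul, ← Matrix.mul_add]
  have h1 := (Pe_OF (n := 2) (F := F)).sum_pr
  rw [Fin.sum_univ_two] at h1
  rw [h1, Matrix.mul_one, pr_def]

theorem gg_mul_ne (h : OF P) {x y : Fin t × Fin 2} (hxy : x ≠ y) : gg P x * gg P y = 0 := by
  rw [gg, gg]
  calc _ = vv P x * ((vv P x)ᴴ * vv P y) * (vv P y)ᴴ := by simp only [Matrix.mul_assoc]
    _ = 0 := by rw [vv_orth h hxy, Matrix.mul_zero, Matrix.zero_mul]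

theorem gg_mul_self (h : OF P) (x : Fin t × Fin 2) : gg P x * gg P x = gg P x := by
  rw [gg]
  calc _ = vv P x * ((vv P x)ᴴ * vv P x) * (vv P x)ᴴ := by simp only [Matrix.mul_assoc]
    _ = _ := by rw [vv_self h, Matrix.mul_one]

theorem gg_ne (h : OF P) (x : Fin t × Fin 2) : gg P x ≠ 0 := by
  intro h0
  have h1 : (vv P x)ᴴ * gg P x * vv P x = 1 := by
    calc _ = ((vv P x)ᴴ * vv P x) * ((vv P x)ᴴ * vv P x) := by rw [gg]; simp only [Matrix.mul_assoc]
      _ = 1 := by rw [vv_self h, Matrix.one_mul]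
  rw [h0, Matrix.mul_zero, Matrix.zero_mul] at h1
  have h6 := congrFun (congrFun h1 0) 0
  rw [Matrix.zero_apply, Matrix.one_apply_eq] at h6
  exact zero_ne_one h6

include hs in
/-- self-adjoint idempotents of `M_2(F_4)` are diagonal -/
theorem idem_two {h : Matrix (Fin 2) (Fin 2) F} (h1 : h * h = h) (h2 : hᴴ = h) (h0 : h ≠ 0) (h3 : h ≠ 1) :
    ∃ b, h = pr (Pe 2 F) b := by
  have a00 := congrFun (congrFun h1 0) 0
  have a11 := congrFun (congrFun h1 1) 1
  rw [Matrix.mul_apply, Fin.sum_univ_two] at a00 a11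
  have b00 := congrFun (congrFun h2 0) 0
  have b01 := congrFun (congrFun h2 0) 1
  have b10 := congrFun (congrFun h2 1) 0
  have b11 := congrFun (congrFun h2 1) 1
  rw [Matrix.conjTranspose_apply, hs] at b00 b01 b10 b11
  have c01 : h 0 1 = 0 := by
    have : h 0 1 ^ 3 = 0 := by
      have e1 : h 0 1 * h 1 0 = 0 := by
        rw [← pow_two, b00] at a00
        exact add_eq_left.1 a00
      rw [pow_succ, b10, mul_comm, e1]
    exact pow_eq_zero_iff (by norm_num) |>.1 this
  have c10 : h 1 0 = 0 := by rw [← b10, c01]; norm_num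
  rw [c01, zero_mul, add_zero] at a00
  rw [c10, zero_mul, zero_add] at a11
  have d00 : h 0 0 = 0 ∨ h 0 0 = 1 := by
    rcases eq_or_ne (h 0 0) 0 with h4 | h4
    · exact Or.inl h4
    · exact Or.inr (mul_right_cancel₀ h4 (by rw [a00, one_mul]))
  have d11 : h 1 1 = 0 ∨ h 1 1 = 1 := by
    rcases eq_or_ne (h 1 1) 0 with h4 | h4
    · exact Or.inl h4
    · exact Or.inr (mul_right_cancel₀ h4 (by rw [a11, one_mul]))
  have hpr : ∀ b i j, pr (Pe 2 F) b i j = if i = b ∧ j = b then 1 else 0 := by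
    intro b i j
    rw [pr_def, Matrix.mul_apply, Fin.sum_univ_one, Matrix.conjTranspose_apply]
    unfold Pe
    by_cases hi : i = b <;> by_cases hj : j = b <;> simp [hi, hj]
  rcases d00 with d00 | d00 <;> rcases d11 with d11 | d11
  · exfalso
    apply h0
    ext i j
    fin_cases i <;> fin_cases j
    · exact d00
    · exact c01
    · exact c10
    · exact d11
  · refine ⟨1, ?_⟩
    ext i j
    rw [hpr]
    fin_cases i <;> fin_cases j
    · simpa using d00
    · simpa using c01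
    · simpa using c10
    · simpa using d11
  · refine ⟨0, ?_⟩
    ext i j
    rw [hpr]
    fin_cases i <;> fin_cases j
    · simpa using d00
    · simpa using c01
    · simpa using c10
    · simpa using d11
  · exfalso
    apply h3
    ext i j
    fin_cases i <;> fin_cases j
    · simpa using d00
    · simpa using c01
    · simpa using c10
    · simpa using d11

include hF hs in
theorem exists_transv (hn : 0 < n) {u : Matrix (Fin n) (Fin 1) F} (hu : uᴴ * u = 0) :
    ∃ s : ↥(Cfsg.SU n F 2), mt (iSU n F 2) s = 1 + u * uᴴ := by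
  have h2 := two_zero hF
  have h1 : (u * uᴴ) * (u * uᴴ) = 0 := by
    calc _ = u * (uᴴ * u) * uᴴ := by simp only [Matrix.mul_assoc]
      _ = 0 := by rw [hu, Matrix.mul_zero, Matrix.zero_mul]
  apply exists_mt hF hs
  · rw [Matrix.conjTranspose_add, Matrix.conjTranspose_one, Matrix.conjTranspose_mul, Matrix.conjTranspose_conjTranspose]
    have e1 : (1 + u * uᴴ) * (1 + u * uᴴ) = 1 + (2 : F) • (u * uᴴ) + (u * uᴴ) * (u * uᴴ) := by
      rw [two_smul]
      noncomm_ring
    rw [e1, h1, h2, zero_smul, add_zero, add_zero]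
  · exact Cfsg.Agent.H748.TW.det_one_add hn ⟨2, by rw [pow_two, h1]⟩

include hF hs in
theorem two_two_false (hn : 3 ≤ n) (hL : Loc N A r) (hM : Model N (iSU n F 2) π) (hT : Lf π T)
    {e : Fin t → Matrix (Fin n) (Fin n) F} (h : Fr π T A e) (hP : OF P) (he : ∀ i, e i = pr P i) : False := by
  have hn0 : 0 < n := by omega
  have h2 := two_zero hF
  have ht := h.two
  let X : Set (Matrix (Fin n) (Fin n) F) := Set.range (gg P)
  have hX : ∀ a ∈ A, ∀ x ∈ X, T a x ∈ X := by
    rintro a ha _ ⟨⟨i, b⟩, rfl⟩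
    obtain ⟨j, hj⟩ := h.perm a ha i
    set g := T a (gg P (i, b)) with hg
    have hle : gg P (i, b) * pr P i = gg P (i, b) := by
      rw [← gg_sum i, mul_add]
      fin_cases b
      · change gg P (i, 0) * gg P (i, 0) + gg P (i, 0) * gg P (i, 1) = gg P (i, 0)
        rw [gg_mul_self hP, gg_mul_ne hP (by simp), add_zero]
      · change gg P (i, 1) * gg P (i, 0) + gg P (i, 1) * gg P (i, 1) = gg P (i, 1)
        rw [gg_mul_self hP, gg_mul_ne hP (by simp), zero_add]
    have hgs0 : (gg P (i, b))ᴴ = gg P (i, b) := by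
      rw [gg, Matrix.conjTranspose_mul, Matrix.conjTranspose_conjTranspose]
    have hgs : gᴴ = g := by rw [hg, ← hT.str, hgs0]
    have hgg : g * g = g := by rw [hg, ← map_mul, gg_mul_self hP]
    have hgj : g * pr P j = g := by
      have := congrArg (T a) hle
      rw [map_mul, ← he, hj, he] at this
      exact this
    have hjg : pr P j * g = g := by
      have := congrArg Matrix.conjTranspose hgj
      rwa [Matrix.conjTranspose_mul, pr_star, hgs] at this
    set k := (P j)ᴴ * g * P j with hk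
    have hgk : g = P j * k * (P j)ᴴ := by
      calc g = pr P j * g * pr P j := by rw [hjg, hgj]
        _ = _ := by rw [hk, pr_def]; simp only [Matrix.mul_assoc]
    have hkk : k * k = k := by
      calc k * k = (P j)ᴴ * (g * pr P j * g) * P j := by rw [hk, pr_def]; simp only [Matrix.mul_assoc]
        _ = k := by rw [hgj, hgg]
    have hks : kᴴ = k := by
      rw [hk, Matrix.conjTranspose_mul, Matrix.conjTranspose_mul, Matrix.conjTranspose_conjTranspose, hgs, Matrix.mul_assoc]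
    have hg0 : g ≠ 0 := by
      rw [hg]
      intro h0
      rw [map_eq_zero_iff _ (T a).injective] at h0
      exact gg_ne hP _ h0
    have hg1 : g ≠ pr P j := by
      rw [hg]
      intro h0
      rw [← he, ← hj] at h0
      have h1 := (T a).injective h0
      rw [he, ← gg_sum i] at h1
      fin_cases b
      · change gg P (i, 0) = gg P (i, 0) + gg P (i, 1) at h1
        exact gg_ne hP (i, 1) (left_eq_add.1 h1)
      · change gg P (i, 1) = gg P (i, 0) + gg P (i, 1) at h1
        exact gg_ne hP (i, 0) (right_eq_add.1 h1)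
    obtain ⟨c, hc⟩ := idem_two hs hkk hks (fun h0 => hg0 (by rw [hgk, h0, Matrix.mul_zero, Matrix.zero_mul]))
      (fun h0 => hg1 (by rw [hgk, h0, Matrix.mul_one, pr_def]))
    refine ⟨(j, c), ?_⟩
    rw [gg_eq, hgk, hc]
  let i0 : Fin t := ⟨0, by omega⟩
  let i1 : Fin t := ⟨1, by omega⟩
  have h01 : i0 ≠ i1 := by simp [i0, i1]
  have hconj : ∀ (s : ↥(Cfsg.SU n F 2)) (x : Fin t × Fin 2), T (π s) (gg P x) =
      (mt (iSU n F 2) s * vv P x) * (mt (iSU n F 2) s * vv P x)ᴴ := by
    intro s x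
    rw [hT.pi, ← mt_star hF hs, gg, Matrix.conjTranspose_mul]
    simp only [Matrix.mul_assoc]
  rcases stabX_or hL hM hT hX with hcase | hcase
  · -- the swap
    set u : Matrix (Fin n) (Fin 1) F := vv P (i0, 0) + vv P (i1, 0) with hu
    have hu0 : uᴴ * vv P (i0, 0) = 1 := by
      rw [hu, Matrix.conjTranspose_add, Matrix.add_mul, vv_self hP, vv_orth hP (by simp [h01.symm]), add_zero]
    have hu1 : uᴴ * vv P (i1, 0) = 1 := by
      rw [hu, Matrix.conjTranspose_add, Matrix.add_mul, vv_self hP, vv_orth hP (by simp [h01]), zero_add]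
    have huu : uᴴ * u = 0 := by
      conv_lhs => rw [hu]
      rw [← hu, Matrix.mul_add, hu0, hu1]
      have : (1 : Matrix (Fin 1) (Fin 1) F) + 1 = (2 : F) • 1 := by rw [two_smul]
      rw [this, h2, zero_smul]
    obtain ⟨s, hsu⟩ := exists_transv hF hs hn0 huu
    have hs0 : mt (iSU n F 2) s * vv P (i0, 0) = vv P (i1, 0) := by
      rw [hsu, Matrix.add_mul, Matrix.one_mul, Matrix.mul_assoc, hu0, Matrix.mul_one, hu, ← add_assoc]
      have : vv P (i0, 0) + vv P (i0, 0) = (2 : F) • vv P (i0, 0) := by rw [two_smul]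
      rw [this, h2, zero_smul, zero_add]
    have hs1 : mt (iSU n F 2) s * vv P (i1, 0) = vv P (i0, 0) := by
      rw [hsu, Matrix.add_mul, Matrix.one_mul, Matrix.mul_assoc, hu1, Matrix.mul_one, hu, add_left_comm]
      have : vv P (i1, 0) + vv P (i1, 0) = (2 : F) • vv P (i1, 0) := by rw [two_smul]
      rw [this, h2, zero_smul, add_zero]
    have hs2 : ∀ x, x ≠ (i0, 0) → x ≠ (i1, 0) → mt (iSU n F 2) s * vv P x = vv P x := by
      intro x hx0 hx1
      rw [hsu, Matrix.add_mul, Matrix.one_mul, Matrix.mul_assoc]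
      have : uᴴ * vv P x = 0 := by
        rw [hu, Matrix.conjTranspose_add, Matrix.add_mul, vv_orth hP hx0.symm, vv_orth hP hx1.symm, add_zero]
      rw [this, Matrix.mul_zero, add_zero]
    have hmap : ∀ x, T (π s) (gg P x) ∈ X := by
      intro x
      rw [hconj]
      by_cases hx0 : x = (i0, 0)
      · rw [hx0, hs0]
        exact ⟨(i1, 0), rfl⟩
      · by_cases hx1 : x = (i1, 0)
        · rw [hx1, hs1]
          exact ⟨(i0, 0), rfl⟩
        · rw [hs2 x hx0 hx1]
          exact ⟨x, rfl⟩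
    have hfin : X.Finite := Set.finite_range _
    have hmem : s ∈ stabX π T X := by
      have h3 : T (π s) '' X = X := by
        apply Set.eq_of_subset_of_ncard_le
        · rintro _ ⟨_, ⟨x, rfl⟩, rfl⟩
          exact hmap x
        · rw [Set.ncard_image_of_injective _ (T (π s)).injective]
        · exact hfin
      intro x
      constructor
      · rintro ⟨y, rfl⟩
        exact hmap y
      · intro hx
        rw [← h3] at hx
        obtain ⟨y, hy, hxy⟩ := hx
        rw [← (T (π s)).injective hxy]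
        exact hy
    obtain ⟨j, hj⟩ := h.perm _ (hcase s hmem) i0
    rw [he, he, ← gg_sum, map_add, hconj, hconj, hs0, hs2 (i0, 1) (by simp) (by simp [h01])] at hj
    change gg P (i1, 0) + gg P (i0, 1) = pr P j at hj
    have h3 : j = i0 := by
      by_contra hne
      have h4 : (gg P (i1, 0) + gg P (i0, 1)) * pr P i0 = 0 := by rw [hj, hP.pr_mul_ne hne]
      rw [← gg_sum i0, mul_add, add_mul, add_mul, gg_mul_ne hP (by simp [h01.symm]), gg_mul_ne hP (by simp),
        gg_mul_ne hP (by simp [h01.symm]), gg_mul_self hP, zero_add, zero_add, zero_add] at h4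
      exact gg_ne hP _ h4
    have h4 : j = i1 := by
      by_contra hne
      have h4 : (gg P (i1, 0) + gg P (i0, 1)) * pr P i1 = 0 := by rw [hj, hP.pr_mul_ne hne]
      rw [← gg_sum i1, mul_add, add_mul, add_mul, gg_mul_ne hP (x := (i1, 0)) (y := (i1, 1)) (by simp),
        gg_mul_ne hP (x := (i0, 1)) (y := (i1, 0)) (by simp),
        gg_mul_ne hP (x := (i0, 1)) (y := (i1, 1)) (by simp [h01]), gg_mul_self hP, add_zero, add_zero, add_zero] at h4
      exact gg_ne hP _ h4
    exact h01 (h3.symm.trans h4)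
  · -- a transvection not preserving `X`
    set u : Matrix (Fin n) (Fin 1) F := vv P (i0, 0) + vv P (i0, 1) + (vv P (i1, 0) + vv P (i1, 1)) with hu
    have hux : ∀ x : Fin t × Fin 2, x.1 = i0 ∨ x.1 = i1 → uᴴ * vv P x = 1 := by
      rintro ⟨i, b⟩ hi
      rw [hu, Matrix.conjTranspose_add, Matrix.conjTranspose_add, Matrix.conjTranspose_add, Matrix.add_mul, Matrix.add_mul,
        Matrix.add_mul]
      simp only at hi
      rcases hi with rfl | rfl <;> fin_cases b
      · change (vv P (i0, 0))ᴴ * vv P (i0, 0) + (vv P (i0, 1))ᴴ * vv P (i0, 0) +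
          ((vv P (i1, 0))ᴴ * vv P (i0, 0) + (vv P (i1, 1))ᴴ * vv P (i0, 0)) = 1
        rw [vv_self hP, vv_orth hP (by simp), vv_orth hP (by simp [h01.symm]), vv_orth hP (by simp), add_zero, add_zero,
          add_zero]
      · change (vv P (i0, 0))ᴴ * vv P (i0, 1) + (vv P (i0, 1))ᴴ * vv P (i0, 1) +
          ((vv P (i1, 0))ᴴ * vv P (i0, 1) + (vv P (i1, 1))ᴴ * vv P (i0, 1)) = 1
        rw [vv_self hP, vv_orth hP (by simp), vv_orth hP (by simp), vv_orth hP (by simp [h01.symm]), add_zero, zero_add,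
          add_zero]
      · change (vv P (i0, 0))ᴴ * vv P (i1, 0) + (vv P (i0, 1))ᴴ * vv P (i1, 0) +
          ((vv P (i1, 0))ᴴ * vv P (i1, 0) + (vv P (i1, 1))ᴴ * vv P (i1, 0)) = 1
        rw [vv_self hP, vv_orth hP (by simp [h01]), vv_orth hP (by simp), vv_orth hP (by simp), add_zero, zero_add,
          add_zero]
      · change (vv P (i0, 0))ᴴ * vv P (i1, 1) + (vv P (i0, 1))ᴴ * vv P (i1, 1) +
          ((vv P (i1, 0))ᴴ * vv P (i1, 1) + (vv P (i1, 1))ᴴ * vv P (i1, 1)) = 1
        rw [vv_self hP, vv_orth hP (by simp), vv_orth hP (by simp [h01]), vv_orth hP (by simp), add_zero, zero_add,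
          zero_add]
    have huu : uᴴ * u = 0 := by
      have h3 : uᴴ * u = uᴴ * vv P (i0, 0) + uᴴ * vv P (i0, 1) + (uᴴ * vv P (i1, 0) + uᴴ * vv P (i1, 1)) := by
        conv_lhs => rw [hu]
        rw [← hu, Matrix.mul_add, Matrix.mul_add, Matrix.mul_add]
      rw [h3, hux _ (Or.inl rfl), hux _ (Or.inl rfl), hux _ (Or.inr rfl), hux _ (Or.inr rfl)]
      have : (1 : Matrix (Fin 1) (Fin 1) F) + 1 = (2 : F) • 1 := by rw [two_smul]
      rw [this, h2, zero_smul, add_zero]
    obtain ⟨s, hsu⟩ := exists_transv hF hs hn0 huu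
    have h3 := hcase s _ ⟨(i0, 0), rfl⟩
    rw [hconj] at h3
    obtain ⟨x, hx⟩ := h3
    have hs0 : mt (iSU n F 2) s * vv P (i0, 0) = vv P (i0, 0) + u := by
      rw [hsu, Matrix.add_mul, Matrix.one_mul, Matrix.mul_assoc, hux _ (Or.inl rfl), Matrix.mul_one]
    rw [hs0] at hx
    have hvu : ∀ x : Fin t × Fin 2, x.1 = i0 ∨ x.1 = i1 → (vv P x)ᴴ * u = 1 := by
      intro x hx
      have := congrArg Matrix.conjTranspose (hux x hx)
      rwa [Matrix.conjTranspose_mul, Matrix.conjTranspose_conjTranspose, Matrix.conjTranspose_one] at this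
    have h4 : (vv P (i0, 1))ᴴ * ((vv P (i0, 0) + u) * (vv P (i0, 0) + u)ᴴ) * vv P (i1, 0) = 1 := by
      have e1 : (vv P (i0, 1))ᴴ * (vv P (i0, 0) + u) = 1 := by
        rw [Matrix.mul_add, vv_orth hP (by simp), hvu _ (Or.inl rfl), zero_add]
      have e2 : (vv P (i0, 0) + u)ᴴ * vv P (i1, 0) = 1 := by
        rw [Matrix.conjTranspose_add, Matrix.add_mul, vv_orth hP (by simp [h01]), hux _ (Or.inr rfl), zero_add]
      calc _ = ((vv P (i0, 1))ᴴ * (vv P (i0, 0) + u)) * ((vv P (i0, 0) + u)ᴴ * vv P (i1, 0)) := by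
            simp only [Matrix.mul_assoc]
        _ = 1 := by rw [e1, e2, Matrix.one_mul]
    rw [← hx] at h4
    have h5 : (vv P (i0, 1))ᴴ * gg P x * vv P (i1, 0) = 0 := by
      by_cases h6 : x = (i0, 1)
      · rw [h6, gg]
        calc _ = (vv P (i0, 1))ᴴ * vv P (i0, 1) * ((vv P (i0, 1))ᴴ * vv P (i1, 0)) := by simp only [Matrix.mul_assoc]
          _ = 0 := by rw [vv_orth hP (x := (i0, 1)) (y := (i1, 0)) (by simp), Matrix.mul_zero]
      · rw [gg]
        calc _ = (vv P (i0, 1))ᴴ * vv P x * ((vv P x)ᴴ * vv P (i1, 0)) := by simp only [Matrix.mul_assoc]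
          _ = 0 := by rw [vv_orth hP (Ne.symm h6), Matrix.zero_mul]
    rw [h5] at h4
    have h6 := congrFun (congrFun h4 0) 0
    rw [Matrix.zero_apply, Matrix.one_apply_eq] at h6
    exact zero_ne_one h6

end

end Cfsg.Agent.H189.TW
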